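import Groth.Agent.Lib.InjHull.Basic
import Mathlib.RingTheory.Filtration
import Mathlib.RingTheory.Artinian.Module

/-!
# Torsion submodules of injective modules, Artinian power-torsion modules
-/

universe u v

open InjHull

namespace Groth.Agent.InjHullLib

variable {R : Type u} [CommRing R] {M : Type v} [AddCommGroup M] [Module R M]

theorem torsionBySet_antitone {a b : Ideal R} (h : a ≤ b) :
    Submodule.torsionBySet R M (b : Set R) ≤ Submodule.torsionBySet R M (a : Set R) :=
  Submodule.torsionBySet_le_torsionBySet_of_subset h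

theorem mem_torsion_iff {a : Ideal R} {x : M} :
    x ∈ Submodule.torsionBySet R M (a : Set R) ↔ ∀ r ∈ a, r • x = 0 := by
  simp [Submodule.mem_torsionBySet_iff]

/-- The union of the `J^n`-torsion submodules. -/
def powTors (J : Ideal R) (M : Type v) [AddCommGroup M] [Module R M] : Submodule R M :=
  ⨆ n : ℕ, Submodule.torsionBySet R M ((J ^ n : Ideal R) : Set R)

theorem mem_powTors_iff {J : Ideal R} {x : M} :
    x ∈ powTors J M ↔ ∃ n : ℕ, ∀ r ∈ J ^ n, r • x = 0 := by
  have hdir : Directed (· ≤ ·) fun n : ℕ =>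
      Submodule.torsionBySet R M ((J ^ n : Ideal R) : Set R) :=
    Monotone.directed_le fun a b h => torsionBySet_antitone (Ideal.pow_le_pow_right h)
  rw [powTors, Submodule.mem_iSup_of_directed _ hdir]
  simp

theorem isPowerTorsion_iff {J : Ideal R} :
    LocCoh.IsPowerTorsion J M ↔ powTors J M = ⊤ := by
  simp [LocCoh.IsPowerTorsion, Submodule.eq_top_iff', mem_powTors_iff]

section Injective

variable [IsNoetherianRing R] {E : Type u} [AddCommGroup E] [Module R E]

/-- A submodule consisting of all elements killed by some member of a family of ideals stable under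
products is injective if the ambient module is (Noetherian base). -/
theorem injective_of_torsion_family (hE : Module.Injective R E) (F : Set (Ideal R))
    (hmul : ∀ a ∈ F, ∀ b ∈ F, a * b ∈ F)
    (T : Submodule R E) (hT : ∀ x : E, x ∈ T ↔ ∃ J ∈ F, ∀ r ∈ J, r • x = 0) :
    Module.Injective R T := by
  classical
  refine Module.Baer.iff_injective.1 fun a g => ?_
  obtain ⟨J, hJF, hJ⟩ : ∃ J ∈ F, ∀ r ∈ J, ∀ x : a, r • g x = 0 := by
    have key : ∀ N : Submodule R T, N.FG → ∃ J ∈ F, ∀ r ∈ J, ∀ x ∈ N, r • x = 0 := by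
      intro N hN
      induction N, hN using Submodule.fg_induction with
      | singleton x =>
        obtain ⟨J, hJF, hJ⟩ := (hT _).1 x.2
        refine ⟨J, hJF, fun r hr y hy => ?_⟩
        obtain ⟨c, rfl⟩ := Submodule.mem_span_singleton.1 hy
        rw [smul_comm, show r • x = 0 from Subtype.ext (hJ r hr), smul_zero]
      | sup N1 N2 _ _ ih1 ih2 =>
        obtain ⟨J1, h1F, h1⟩ := ih1
        obtain ⟨J2, h2F, h2⟩ := ih2
        refine ⟨J1 * J2, hmul _ h1F _ h2F, fun r hr y hy => ?_⟩
        obtain ⟨y1, hy1, y2, hy2, rfl⟩ := Submodule.mem_sup.1 hy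
        rw [smul_add, h1 r (Ideal.mul_le_inf hr).1 y1 hy1, h2 r (Ideal.mul_le_inf hr).2 y2 hy2,
          add_zero]
    obtain ⟨J, hJF, hJ⟩ := key (LinearMap.range g)
      (by rw [← Submodule.map_top]; exact (IsNoetherian.noetherian _).map g)
    exact ⟨J, hJF, fun r hr x => hJ r hr _ ⟨x, rfl⟩⟩
  obtain ⟨k, hk⟩ := J.exists_pow_inf_eq_pow_smul (M := R) (N := a)
  set K := J ^ (k + 1) with hK
  have hKa : ∀ x : a, (x : R) ∈ K → g x = 0 := by
    intro x hx
    have h1 : (x : R) ∈ J • a := by
      have h2 : (x : R) ∈ J ^ (k + 1) • (⊤ : Submodule R R) ⊓ a := ⟨by simpa using hx, x.2⟩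
      rw [hk (k + 1) (Nat.le_succ k), Nat.add_sub_cancel_left, pow_one] at h2
      exact Submodule.smul_mono le_rfl inf_le_right h2
    have h3 : ∀ y ∈ J • a, ∃ hy : y ∈ a, g ⟨y, hy⟩ = 0 := by
      intro y hy
      refine Submodule.smul_induction_on hy (fun r hr n hn => ?_) ?_
      · exact ⟨a.smul_mem r hn, by
          rw [show (⟨r • n, _⟩ : a) = r • ⟨n, hn⟩ from rfl, map_smul]; exact hJ r hr _⟩
      · rintro y z ⟨hy, hy0⟩ ⟨hz, hz0⟩
        exact ⟨a.add_mem hy hz, by
          rw [show (⟨y + z, _⟩ : a) = ⟨y, hy⟩ + ⟨z, hz⟩ from rfl, map_add, hy0, hz0, add_zero]⟩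
    obtain ⟨_, h⟩ := h3 x h1
    exact h
  let q : a →ₗ[R] R ⧸ K := K.mkQ ∘ₗ a.subtype
  have hq : LinearMap.ker q ≤ LinearMap.ker (T.subtype ∘ₗ g) := fun x hx => by
    simpa using congrArg Subtype.val (hKa x ((Submodule.Quotient.mk_eq_zero K).1 hx))
  obtain ⟨g1, hg1⟩ := Module.Injective.extension_property R E _ _ (Submodule.liftQ _ q le_rfl)
    (LinearMap.ker_eq_bot.1 (Submodule.ker_liftQ_eq_bot _ _ _ le_rfl))
    (Submodule.liftQ _ (T.subtype ∘ₗ g) hq) (inj := hE)
  have hpow : K ∈ F := by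
    have : ∀ n : ℕ, J ^ (n + 1) ∈ F := fun n => by
      induction n with
      | zero => simpa using hJF
      | succ n ih => rw [pow_succ]; exact hmul _ ih _ hJF
    exact this k
  have hmem : g1 (K.mkQ 1) ∈ T := (hT _).2 ⟨K, hpow, fun r hr => by
    rw [← map_smul, ← map_smul, smul_eq_mul, mul_one, Submodule.mkQ_apply,
      (Submodule.Quotient.mk_eq_zero K).2 hr, map_zero]⟩
  refine ⟨LinearMap.toSpanSingleton R T ⟨_, hmem⟩, fun x hx => Subtype.ext ?_⟩
  have h5 := LinearMap.congr_fun hg1 (Submodule.Quotient.mk ⟨x, hx⟩)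
  simp only [LinearMap.comp_apply, Submodule.liftQ_apply, Submodule.coe_subtype] at h5
  rw [← h5]
  simp only [LinearMap.toSpanSingleton_apply, SetLike.val_smul, ← map_smul, smul_eq_mul, mul_one]
  rfl

theorem injective_powTors (hE : Module.Injective R E) (J : Ideal R) :
    Module.Injective R (powTors J E) := by
  refine injective_of_torsion_family hE (Set.range fun n : ℕ => J ^ n) ?_ _ (fun x => ?_)
  · rintro _ ⟨a, rfl⟩ _ ⟨b, rfl⟩; exact ⟨a + b, pow_add J a b⟩
  · rw [mem_powTors_iff]; simp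

/-- Elements killed by some element of a submonoid. -/
noncomputable def monoidTors (S : Submonoid R) (M : Type v) [AddCommGroup M] [Module R M] : Submodule R M :=
  LinearMap.ker (LocalizedModule.mkLinearMap S M)

omit [IsNoetherianRing R] in
theorem mem_monoidTors_iff {S : Submonoid R} {M : Type v} [AddCommGroup M] [Module R M] {x : M} :
    x ∈ monoidTors S M ↔ ∃ s ∈ S, s • x = 0 := by
  rw [monoidTors, LinearMap.mem_ker, IsLocalizedModule.eq_zero_iff S]
  exact ⟨fun ⟨s, hs⟩ => ⟨s, s.2, hs⟩, fun ⟨s, hs, h⟩ => ⟨⟨s, hs⟩, h⟩⟩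

theorem injective_monoidTors (hE : Module.Injective R E) (S : Submonoid R) :
    Module.Injective R (monoidTors S E) := by
  refine injective_of_torsion_family hE ((fun s : R => Ideal.span {s}) '' S) ?_ _ (fun x => ?_)
  · rintro _ ⟨a, ha, rfl⟩ _ ⟨b, hb, rfl⟩
    exact ⟨a * b, S.mul_mem ha hb, (Ideal.span_singleton_mul_span_singleton a b).symm⟩
  · rw [mem_monoidTors_iff]
    constructor
    · rintro ⟨s, hs, h⟩
      refine ⟨_, ⟨s, hs, rfl⟩, fun r hr => ?_⟩
      obtain ⟨c, rfl⟩ := Ideal.mem_span_singleton'.1 hr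
      rw [mul_smul, h, smul_zero]
    · rintro ⟨_, ⟨s, hs, rfl⟩, h⟩
      exact ⟨s, hs, h s (Ideal.mem_span_singleton_self s)⟩

omit [IsNoetherianRing R] in
/-- A regular element acts surjectively on an injective module on which it is injective. -/
theorem smul_surjective_of_injective (hE : Module.Injective R E) (s : R)
    (hs : IsSMulRegular E s) : Function.Surjective fun x : E => s • x := by
  intro c
  let φ : R →ₗ[R] R := LinearMap.toSpanSingleton R R s
  have hker : LinearMap.ker φ ≤ LinearMap.ker (LinearMap.toSpanSingleton R E c) := fun r hr => by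
    have h0 : r * s = 0 := by simpa [φ] using hr
    exact LinearMap.mem_ker.2 (hs (by simp [← mul_smul, mul_comm s r, h0]))
  obtain ⟨h, hh⟩ := Module.Injective.extension_property R E _ _ ((LinearMap.ker φ).liftQ φ le_rfl)
    (LinearMap.ker_eq_bot.1 (Submodule.ker_liftQ_eq_bot _ _ _ le_rfl))
    ((LinearMap.ker φ).liftQ _ hker) (inj := hE)
  refine ⟨h 1, ?_⟩
  have h2 := LinearMap.congr_fun hh (Submodule.Quotient.mk 1)
  rw [LinearMap.comp_apply, Submodule.liftQ_apply, Submodule.liftQ_apply] at h2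
  simpa [φ, ← map_smul] using h2

theorem mkLinearMap_surjective_of_injective (hE : Module.Injective R E) (S : Submonoid R) :
    Function.Surjective (LocalizedModule.mkLinearMap S E) := by
  obtain ⟨C, hC⟩ := exists_isCompl_of_injective _ (injective_monoidTors hE S)
  intro z
  induction z using LocalizedModule.induction_on with
  | _ m s =>
  obtain ⟨t, ht, c, hc, rfl⟩ := Submodule.mem_sup.1 (hC.sup_eq_top.ge (Submodule.mem_top (x := m)))
  have hreg : IsSMulRegular C (s : R) := by
    refine IsSMulRegular.of_right_eq_zero_of_smul fun d hd => ?_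
    have : (d : E) ∈ monoidTors S E ⊓ C :=
      ⟨mem_monoidTors_iff.2 ⟨s, s.2, by simpa using congrArg Subtype.val hd⟩, d.2⟩
    rw [hC.inf_eq_bot, Submodule.mem_bot] at this
    exact Subtype.ext this
  obtain ⟨d, hd⟩ := smul_surjective_of_injective (injective_of_isCompl hC.symm hE) _ hreg ⟨c, hc⟩
  refine ⟨d, ?_⟩
  obtain ⟨u, hu, hut⟩ := mem_monoidTors_iff.1 ht
  have hd' : (s : R) • (d : E) = c := by simpa using congrArg Subtype.val hd
  rw [LocalizedModule.mkLinearMap_apply, LocalizedModule.mk_eq]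
  refine ⟨⟨u, hu⟩, ?_⟩
  simp only [Submonoid.smul_def, one_smul, hd', smul_add, hut, zero_add]

end Injective

section Artinian

theorem eq_of_le_of_forall_smul_eq (a : R) (N N' : Submodule R M) (hle : N' ≤ N)
    (hM : ∀ x : M, ∃ i : ℕ, a ^ i • x = 0)
    (h : ∀ i : ℕ, ∀ x ∈ N, a ^ (i + 1) • x = 0 →
      ∃ y ∈ N', a ^ (i + 1) • y = 0 ∧ a ^ i • x = a ^ i • y) : N = N' := by
  have key : ∀ i : ℕ, ∀ x ∈ N, a ^ i • x = 0 → x ∈ N' := fun i => by
    induction i with
    | zero => intro x _ h0; rw [pow_zero, one_smul] at h0; rw [h0]; exact N'.zero_mem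
    | succ i ih =>
      intro x hx h0
      obtain ⟨y, hy, -, he⟩ := h i x hx h0
      have := ih (x - y) (N.sub_mem hx (hle hy)) (by rw [smul_sub, he, sub_self])
      simpa using N'.add_mem this hy
  refine le_antisymm (fun x hx => ?_) hle
  obtain ⟨i, hi⟩ := hM x
  exact key i x hx hi

theorem isArtinian_of_principal (a : R) (M : Type v) [AddCommGroup M] [Module R M]
    (hM : ∀ x : M, ∃ i : ℕ, a ^ i • x = 0)
    [IsArtinian R (Submodule.torsionBy R M a)] : IsArtinian R M := by
  rw [← monotone_stabilizes_iff_artinian]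
  intro f
  let A : ℕ → ℕ → Submodule R (Submodule.torsionBy R M a) := fun i j =>
    ((OrderDual.ofDual (f i) : Submodule R M) ⊓ Submodule.torsionBy R M (a ^ (j + 1))).map
      (LinearMap.lsmul R M (a ^ j)) |>.comap (Submodule.torsionBy R M a).subtype
  have anti : ∀ {i i' j j'}, i ≤ i' → j ≤ j' → A i' j' ≤ A i j := by
    intro i i' j j' hi hj x hx
    obtain ⟨y, ⟨hy1, hy2⟩, hy⟩ := hx
    refine ⟨a ^ (j' - j) • y, ⟨(OrderDual.ofDual (f i) : Submodule R M).smul_mem _
      ((f.monotone hi) hy1), ?_⟩, ?_⟩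
    · rw [SetLike.mem_coe, Submodule.mem_torsionBy_iff, ← mul_smul, ← pow_add,
        show j + 1 + (j' - j) = j' + 1 by omega]
      exact hy2
    · rw [← hy]
      simp only [LinearMap.lsmul_apply, ← mul_smul, ← pow_add, Nat.add_sub_cancel' hj]
  obtain ⟨_, ⟨⟨i0, j0⟩, rfl⟩, hmin⟩ := IsArtinian.set_has_minimal
    (Set.range fun p : ℕ × ℕ => A p.1 p.2) (Set.range_nonempty _)
  have hst : ∀ i j, i0 ≤ i → j0 ≤ j → A i j = A i0 j0 := fun i j hi hj =>
    eq_of_le_of_not_lt (anti hi hj) (hmin _ ⟨(i, j), rfl⟩)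
  have hfin : ∀ j, ∃ i1, ∀ i, i1 ≤ i → A i1 j = A i j := fun j => by
    obtain ⟨_, ⟨i1, rfl⟩, h1⟩ := IsArtinian.set_has_minimal
      (Set.range fun i : ℕ => A i j) (Set.range_nonempty _)
    exact ⟨i1, fun i hi => (eq_of_le_of_not_lt (anti hi le_rfl) (h1 _ ⟨i, rfl⟩)).symm⟩
  choose b hb using hfin
  refine ⟨max i0 ((Finset.range j0).sup b), fun m hm => ?_⟩
  apply OrderDual.ofDual.injective
  refine eq_of_le_of_forall_smul_eq a _ _ (f.monotone hm) hM fun j x hx hx0 => ?_
  have hA : A (max i0 ((Finset.range j0).sup b)) j = A m j := by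
    rcases lt_or_ge j j0 with hj | hj
    · have hbj : b j ≤ max i0 ((Finset.range j0).sup b) :=
        le_max_of_le_right (Finset.le_sup (f := b) (Finset.mem_range.2 hj))
      exact (hb j _ hbj).symm.trans (hb j _ (hbj.trans hm))
    · rw [hst _ j (le_max_left _ _) hj, hst m j ((le_max_left _ _).trans hm) hj]
  have hmem : a ^ j • x ∈ Submodule.torsionBy R M a := by
    rw [Submodule.mem_torsionBy_iff, ← mul_smul, ← pow_succ']
    exact hx0
  have : (⟨_, hmem⟩ : Submodule.torsionBy R M a) ∈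
      A (max i0 ((Finset.range j0).sup b)) j := ⟨x, ⟨hx, hx0⟩, rfl⟩
  rw [hA] at this
  obtain ⟨y, ⟨hy1, hy2⟩, hy⟩ := this
  exact ⟨y, hy1, hy2, hy.symm⟩

theorem isArtinian_torsion_step (a : R) (J : Ideal R)
    (hM : ∀ x : M, ∃ i : ℕ, a ^ i • x = 0)
    [IsArtinian R (Submodule.torsionBySet R M ((Ideal.span {a} ⊔ J : Ideal R) : Set R))] :
    IsArtinian R (Submodule.torsionBySet R M (J : Set R)) := by
  have hle : (Submodule.torsionBy R (Submodule.torsionBySet R M (J : Set R)) a).map
      (Submodule.torsionBySet R M (J : Set R)).subtype ≤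
      Submodule.torsionBySet R M ((Ideal.span {a} ⊔ J : Ideal R) : Set R) := by
    rintro _ ⟨x, hx, rfl⟩
    rw [mem_torsion_iff]
    intro r hr
    obtain ⟨p, hp, q, hq, rfl⟩ := Submodule.mem_sup.1 hr
    obtain ⟨c, rfl⟩ := Ideal.mem_span_singleton'.1 hp
    have h1 : a • (x : M) = 0 := congrArg Subtype.val ((Submodule.mem_torsionBy_iff _ _).1 hx)
    change (c * a + q) • (x : M) = 0
    rw [add_smul, mul_smul, h1, smul_zero, mem_torsion_iff.1 x.2 q hq, zero_add]
  have h2 := isArtinian_of_le hle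
  have h3 : IsArtinian R (Submodule.torsionBy R (Submodule.torsionBySet R M (J : Set R)) a) :=
    isArtinian_of_linearEquiv (Submodule.equivMapOfInjective _
      (Submodule.torsionBySet R M (J : Set R)).subtype_injective _).symm
  exact isArtinian_of_principal a _ fun x => (hM x.1).imp fun n hn => Subtype.ext hn

/-- Melkersson: power torsion with Artinian `a`-torsion is Artinian. -/
theorem isArtinian_of_torsion (s : Finset R) (M : Type v) [AddCommGroup M] [Module R M]
    (hM : LocCoh.IsPowerTorsion (Ideal.span (s : Set R)) M)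
    (hA : IsArtinian R (Submodule.torsionBySet R M (Ideal.span (s : Set R) : Set R))) :
    IsArtinian R M := by
  classical
  induction s using Finset.induction with
  | empty =>
    have h : Submodule.torsionBySet R M (Ideal.span ((∅ : Finset R) : Set R) : Set R) = ⊤ := by
      rw [Submodule.eq_top_iff']; intro x; rw [mem_torsion_iff]; simp +contextual
    rw [h] at hA
    exact isArtinian_of_linearEquiv Submodule.topEquiv
  | @insert a s ha ih =>
    rw [Finset.coe_insert, Ideal.span_insert] at hA hM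
    refine ih (fun x => ?_) (isArtinian_torsion_step a _ fun x => ?_)
    · obtain ⟨n, hn⟩ := hM x
      exact ⟨n, fun r hr => hn r (Ideal.pow_right_mono le_sup_right n hr)⟩
    · obtain ⟨n, hn⟩ := hM x
      exact ⟨n, hn _ (Ideal.pow_mem_pow (le_sup_left (b := Ideal.span (s : Set R))
        (Ideal.mem_span_singleton_self a)) n)⟩

theorem isArtinian_of_fg_torsion {J : Ideal R} (hJ : J.FG) (M : Type v) [AddCommGroup M] [Module R M]
    (hM : LocCoh.IsPowerTorsion J M) (hA : IsArtinian R (Submodule.torsionBySet R M (J : Set R))) :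
    IsArtinian R M := by
  obtain ⟨s, rfl⟩ := hJ
  exact isArtinian_of_torsion s M hM hA

end Artinian

end Groth.Agent.InjHullLib
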