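import Groth.Agent.Lib.InjHull.Matlis
import Mathlib.LinearAlgebra.Dimension.Finrank
import Mathlib.LinearAlgebra.FreeModule.Finite.Basic

/-!
# Socle arguments
-/

universe u

open InjHull IsLocalRing

namespace Groth.Agent.InjHullLib

variable {R : Type u} [CommRing R]

/-- In a power torsion module every nonzero element has a nonzero multiple in the torsion. -/
theorem exists_smul_mem_torsion {J : Ideal R} {M : Type u} [AddCommGroup M] [Module R M]
    (hM : LocCoh.IsPowerTorsion J M) {x : M} (hx : x ≠ 0) :
    ∃ r : R, r • x ∈ Submodule.torsionBySet R M (J : Set R) ∧ r • x ≠ 0 := by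
  classical
  obtain ⟨n, hn⟩ := hM x
  induction n generalizing x with
  | zero => exact absurd (by simpa using hn 1 (by simp)) hx
  | succ n ih =>
    by_cases h : ∀ a ∈ J ^ n, a • x = 0
    · exact ih hx h
    push Not at h
    obtain ⟨a, ha, ha0⟩ := h
    refine ⟨a, mem_torsion_iff.2 fun b hb => ?_, ha0⟩
    rw [← mul_smul, mul_comm]
    exact hn _ (by rw [pow_succ]; exact Ideal.mul_mem_mul ha hb)

theorem injective_of_injOn_torsion {J : Ideal R} {M N : Type u} [AddCommGroup M] [Module R M]
    [AddCommGroup N] [Module R N] (hM : LocCoh.IsPowerTorsion J M) (g : M →ₗ[R] N)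
    (hg : ∀ x ∈ Submodule.torsionBySet R M (J : Set R), g x = 0 → x = 0) : Function.Injective g := by
  rw [injective_iff_map_eq_zero]
  intro x hx
  by_contra h0
  obtain ⟨r, hr, hr0⟩ := exists_smul_mem_torsion hM h0
  exact hr0 (hg _ hr (by rw [map_smul, hx, smul_zero]))

theorem isInjectiveHull_of_socle [IsLocalRing R] {T : Type u} [AddCommGroup T] [Module R T]
    (hT : Module.Injective R T) (hpt : LocCoh.IsPowerTorsion (maximalIdeal R) T)
    (g : ResidueField R →ₗ[R] T) (hg : Function.Injective g)
    (hsoc : Submodule.torsionBySet R T (maximalIdeal R : Set R) ≤ LinearMap.range g) :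
    IsInjectiveHull g := by
  refine ⟨(isEssentialInj_iff g).2 ⟨hg, fun x hx => ?_⟩, hT⟩
  obtain ⟨r, hr, hr0⟩ := exists_smul_mem_torsion hpt hx
  exact ⟨r, hsoc hr, hr0⟩

variable [IsLocalRing R]

theorem range_residueMap_le {T : Type u} [AddCommGroup T] [Module R T]
    (g : ResidueField R →ₗ[R] T) :
    LinearMap.range g ≤ Submodule.torsionBySet R T (maximalIdeal R : Set R) := by
  rintro _ ⟨c, rfl⟩
  rw [mem_torsion_iff]
  intro r hr
  rw [← map_smul, residue_smul_eq_zero hr, map_zero]

/-- A module with torsion of length one over the residue field receives an injection of `k` onto it. -/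
theorem exists_residueMap_of_length_one {T : Type u} [AddCommGroup T] [Module R T]
    (h : Module.length R (Submodule.torsionBySet R T (maximalIdeal R : Set R)) = 1) :
    ∃ g : ResidueField R →ₗ[R] T, Function.Injective g ∧
      Submodule.torsionBySet R T (maximalIdeal R : Set R) ≤ LinearMap.range g := by
  have := Module.length_eq_one_iff.1 h
  obtain ⟨I, hI, ⟨e⟩⟩ := isSimpleModule_iff_quot_maximal.1 this
  obtain rfl := eq_maximalIdeal hI
  let e' : ResidueField R ≃ₗ[R] Submodule.torsionBySet R T (maximalIdeal R : Set R) := e.symm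
  refine ⟨(Submodule.torsionBySet R T (maximalIdeal R : Set R)).subtype ∘ₗ e'.toLinearMap,
    (Submodule.subtype_injective _).comp e'.injective, ?_⟩
  intro x hx
  exact ⟨e'.symm ⟨x, hx⟩, by simp⟩

end Groth.Agent.InjHullLib
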