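import Groth.Agent.Lib.InjHull.Torsion
import Mathlib.RingTheory.Length
import Mathlib.RingTheory.FiniteLength

/-!
# The hull of `R ⧸ m`, Matlis duality for finite length modules
-/

universe u

open InjHull

namespace Groth.Agent.InjHullLib

variable {R : Type u} [CommRing R] {m : Ideal R}
variable {E : Type u} [AddCommGroup E] [Module R E]
variable {M : Type u} [AddCommGroup M] [Module R M]

theorem smul_mk_eq_zero {r : R} (hr : r ∈ m) (x : R ⧸ m) : r • x = 0 := by
  obtain ⟨b, rfl⟩ := Submodule.Quotient.mk_surjective m x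
  rw [← Submodule.Quotient.mk_smul, Submodule.Quotient.mk_eq_zero]
  exact m.mul_mem_right b hr

/-- The `m`-torsion of an essential extension of `R ⧸ m` is the image of `R ⧸ m`. -/
theorem torsion_eq_range [m.IsMaximal] {f : (R ⧸ m) →ₗ[R] E} (hf : IsEssentialInj f) :
    Submodule.torsionBySet R E (m : Set R) = LinearMap.range f := by
  refine le_antisymm (fun x hx => ?_) ?_
  · by_cases hx0 : x = 0
    · subst hx0; exact Submodule.zero_mem _
    obtain ⟨r, c, hc, hc0⟩ := hf.exists_smul hx0
    by_cases hr : r ∈ m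
    · rw [mem_torsion_iff.1 hx r hr, ← map_zero f, hf.injective.eq_iff] at hc
      exact absurd hc hc0
    · obtain ⟨s, i, hi, h1⟩ := Ideal.IsMaximal.exists_inv ‹_› hr
      refine ⟨s • c, ?_⟩
      rw [map_smul, hc, ← mul_smul]
      conv_rhs => rw [← one_smul R x, ← h1, add_smul, mem_torsion_iff.1 hx i hi, add_zero]
  · rintro _ ⟨c, rfl⟩
    rw [mem_torsion_iff]
    intro r hr
    rw [← map_smul, smul_mk_eq_zero hr, map_zero]

theorem isPowerTorsion_hull [IsNoetherianRing R] {f : (R ⧸ m) →ₗ[R] E} (hf : IsInjectiveHull f) :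
    LocCoh.IsPowerTorsion m E := by
  rw [isPowerTorsion_iff]
  obtain ⟨C, hC⟩ := exists_isCompl_of_injective _ (injective_powTors hf.isInjective m)
  have : C = ⊥ := by_contra fun h => hf.essential C h (eq_bot_iff.2 (by
    rw [← hC.symm.inf_eq_bot]
    refine inf_le_inf_left C ?_
    rintro _ ⟨c, rfl⟩
    exact mem_powTors_iff.2 ⟨1, fun r hr => by
      rw [← map_smul, smul_mk_eq_zero (by simpa using hr), map_zero]⟩))
  rw [← hC.sup_eq_top, this, sup_bot_eq]

theorem isArtinian_quotient_maximal [m.IsMaximal] : IsArtinian R (R ⧸ m) :=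
  have : IsSimpleModule R (R ⧸ m) :=
    isSimpleModule_iff_quot_maximal.2 ⟨m, ‹_›, ⟨LinearEquiv.refl R _⟩⟩
  inferInstance

theorem isArtinian_hull [IsNoetherianRing R] [m.IsMaximal] {f : (R ⧸ m) →ₗ[R] E}
    (hf : IsInjectiveHull f) : IsArtinian R E := by
  refine isArtinian_of_fg_torsion (IsNoetherian.noetherian m) E (isPowerTorsion_hull hf) ?_
  rw [torsion_eq_range hf.toIsEssentialInj]
  have := isArtinian_quotient_maximal (m := m)
  exact isArtinian_of_linearEquiv (LinearEquiv.ofInjective f hf.injective)

section Local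

variable [IsLocalRing R]

open IsLocalRing

variable {f : ResidueField R →ₗ[R] E}

theorem residue_smul_eq_zero {r : R} (hr : r ∈ maximalIdeal R)
    (x : ResidueField R) : r • x = 0 := by
  rw [Algebra.smul_def, show algebraMap R (ResidueField R) r = residue R r from rfl,
    (residue_eq_zero_iff r).2 hr, zero_mul]

theorem exists_dual_ne_zero (hf : IsInjectiveHull f) {x : M} (hx : x ≠ 0) :
    ∃ φ : M →ₗ[R] E, φ x ≠ 0 := by
  set L := LinearMap.toSpanSingleton R M x
  have hker : LinearMap.ker L ≤ maximalIdeal R :=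
    le_maximalIdeal fun h => hx (by simpa [L] using h.ge (Submodule.mem_top (x := (1 : R))))
  obtain ⟨g, hg⟩ := Module.Injective.extension_property R E _ _ ((LinearMap.ker L).liftQ L le_rfl)
    (LinearMap.ker_eq_bot.1 (Submodule.ker_liftQ_eq_bot _ _ _ le_rfl))
    ((LinearMap.ker L).liftQ (f ∘ₗ Algebra.linearMap R (ResidueField R)) (hker.trans (fun r hr =>
      LinearMap.mem_ker.2 (by
        rw [LinearMap.comp_apply, Algebra.linearMap_apply, Algebra.algebraMap_eq_smul_one,
          residue_smul_eq_zero hr, map_zero]))))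
    (inj := hf.isInjective)
  refine ⟨g, fun h0 => ?_⟩
  have h2 := LinearMap.congr_fun hg (Submodule.Quotient.mk 1)
  rw [LinearMap.comp_apply, Submodule.liftQ_apply, Submodule.liftQ_apply] at h2
  simp only [L, LinearMap.toSpanSingleton_apply, one_smul, h0, LinearMap.comp_apply,
    Algebra.linearMap_apply, map_one] at h2
  exact one_ne_zero (hf.injective ((map_zero f).trans h2).symm)

theorem applyₗ_injective (hf : IsInjectiveHull f) :
    Function.Injective (LinearMap.applyₗ : M →ₗ[R] (M →ₗ[R] E) →ₗ[R] E) := by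
  rw [injective_iff_map_eq_zero]
  intro x hx
  by_contra h0
  obtain ⟨φ, hφ⟩ := exists_dual_ne_zero hf h0
  exact hφ (LinearMap.congr_fun hx φ)

theorem annihilator_dual (hf : IsInjectiveHull f) :
    Module.annihilator R M = Module.annihilator R (M →ₗ[R] E) := by
  ext r
  simp only [Module.mem_annihilator]
  refine ⟨fun h φ => LinearMap.ext fun x => ?_, fun h x => ?_⟩
  · rw [LinearMap.smul_apply, ← map_smul, h, map_zero, LinearMap.zero_apply]
  · by_contra h0
    obtain ⟨φ, hφ⟩ := exists_dual_ne_zero hf h0
    exact hφ (by rw [map_smul]; exact LinearMap.congr_fun (h φ) x)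

/-- `Hom(k, E) ≅ k`. -/
noncomputable def homResidueFieldEquiv (hf : IsEssentialInj f) :
    ResidueField R ≃ₗ[R] (ResidueField R →ₗ[R] E) := by
  let Φ : ResidueField R →ₗ[R] (ResidueField R →ₗ[R] E) :=
    (LinearMap.llcomp R (ResidueField R) (ResidueField R) E f) ∘ₗ LinearMap.mul R (ResidueField R)
  refine LinearEquiv.ofBijective Φ ⟨?_, ?_⟩
  · intro a b h
    have := hf.injective (LinearMap.congr_fun h 1)
    simpa using this
  · intro φ
    have hmem : φ 1 ∈ Submodule.torsionBySet R E (maximalIdeal R : Set R) := by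
      rw [mem_torsion_iff]
      intro r hr
      rw [← map_smul, residue_smul_eq_zero hr, map_zero]
    rw [torsion_eq_range (m := maximalIdeal R) hf] at hmem
    obtain ⟨c, hc⟩ : ∃ c : ResidueField R, f c = φ 1 := hmem
    refine ⟨c, LinearMap.ext fun x => ?_⟩
    obtain ⟨r, rfl⟩ := residue_surjective x
    have h1 : residue R r = r • (1 : ResidueField R) := by
      rw [Algebra.smul_def, mul_one]; rfl
    rw [h1, map_smul, map_smul]
    congr 1
    change f (c * 1) = φ 1
    rw [mul_one]
    exact hc

theorem length_dual_of_simple (hf : IsEssentialInj f) [IsSimpleModule R M] :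
    Module.length R (M →ₗ[R] E) = 1 := by
  obtain ⟨I, hI, ⟨e⟩⟩ := isSimpleModule_iff_quot_maximal.1 (inferInstance : IsSimpleModule R M)
  obtain rfl := eq_maximalIdeal hI
  have : IsSimpleModule R (ResidueField R) :=
    isSimpleModule_iff_quot_maximal.2 ⟨_, maximalIdeal.isMaximal R, ⟨LinearEquiv.refl R _⟩⟩
  rw [(e.congrLeft (S := R) (M := E)).length_eq]
  exact (homResidueFieldEquiv hf).length_eq.symm.trans (Module.length_eq_one R _)

theorem length_dual (hf : IsInjectiveHull f) (hM : IsFiniteLength R M) :
    Module.length R (M →ₗ[R] E) = Module.length R M := by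
  induction hM with
  | of_subsingleton =>
    rename_i M _ _ _
    rw [Module.length_eq_zero, Module.length_eq_zero]
  | of_simple_quotient hN ih =>
    rename_i M _ _ N _
    have hex : Function.Exact (LinearMap.lcomp R E N.mkQ) (LinearMap.lcomp R E N.subtype) := by
      intro φ
      constructor
      · intro h
        exact ⟨N.liftQ φ fun x hx => LinearMap.congr_fun h ⟨x, hx⟩, LinearMap.ext fun x => rfl⟩
      · rintro ⟨ψ, rfl⟩
        ext x
        simp [(Submodule.Quotient.mk_eq_zero N).2 x.2]
    rw [Module.length_eq_add_of_exact (LinearMap.lcomp R E N.mkQ) (LinearMap.lcomp R E N.subtype)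
      (fun a b h => Submodule.linearMap_qext N h)
      (fun g => Module.Injective.extension_property R E _ _ N.subtype N.injective_subtype g
        (inj := hf.isInjective)) hex,
      Module.length_eq_add_of_exact N.subtype N.mkQ N.injective_subtype N.mkQ_surjective
        (LinearMap.exact_subtype_mkQ N), ih, length_dual_of_simple (M := M ⧸ N) hf.toIsEssentialInj,
      Module.length_eq_one R (M ⧸ N), add_comm]

theorem applyₗ_bijective (hf : IsInjectiveHull f) (hM : IsFiniteLength R M) :
    Function.Bijective (LinearMap.applyₗ : M →ₗ[R] (M →ₗ[R] E) →ₗ[R] E) := by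
  have hd : IsFiniteLength R (M →ₗ[R] E) := Module.length_ne_top_iff.1 (by
    rw [length_dual hf hM]; exact Module.length_ne_top_iff.2 hM)
  have hdd : IsFiniteLength R ((M →ₗ[R] E) →ₗ[R] E) := Module.length_ne_top_iff.1 (by
    rw [length_dual hf hd, length_dual hf hM]; exact Module.length_ne_top_iff.2 hM)
  have hi := applyₗ_injective (M := M) hf
  refine ⟨hi, ?_⟩
  obtain ⟨hN, hA⟩ := isFiniteLength_iff_isNoetherian_isArtinian.1 hdd
  rw [← LinearMap.range_eq_top]
  by_contra h
  have h2 := Submodule.length_lt h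
  rw [← (LinearEquiv.ofInjective _ hi).length_eq, length_dual hf hd, length_dual hf hM] at h2
  exact lt_irrefl _ h2

omit [IsLocalRing R] in
theorem isFiniteLength_of_finite_of_isArtinianRing [IsArtinianRing R] (M : Type u) [AddCommGroup M]
    [Module R M] [Module.Finite R M] : IsFiniteLength R M :=
  isFiniteLength_iff_isNoetherian_isArtinian.2 ⟨inferInstance, inferInstance⟩

theorem isArtinian_dual_of_finite [IsNoetherianRing R] (hf : IsInjectiveHull f)
    (N : Type u) [AddCommGroup N] [Module R N] [Module.Finite R N] : IsArtinian R (N →ₗ[R] E) := by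
  have := isArtinian_hull (m := maximalIdeal R) hf
  obtain ⟨n, g, hg⟩ := Module.Finite.exists_fin' R N
  let e : ((Fin n → R) →ₗ[R] E) ≃ₗ[R] (Fin n → E) :=
    (LinearMap.lsum R (fun _ : Fin n => R) R).symm ≪≫ₗ
      LinearEquiv.piCongrRight fun _ => LinearMap.ringLmapEquivSelf R R E
  exact isArtinian_of_injective (e.toLinearMap ∘ₗ LinearMap.lcomp R E g)
    (e.injective.comp (show Function.Injective (LinearMap.lcomp R E g) from fun a b h => LinearMap.ext fun x => by
      obtain ⟨y, rfl⟩ := hg x
      exact LinearMap.congr_fun h y))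

end Local

end Groth.Agent.InjHullLib
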