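import Groth.Agent.Lib.InjHull.Basic
import Mathlib.LinearAlgebra.TensorProduct.RightExactness
import Mathlib.RingTheory.Noetherian.Basic

/-!
# `M ⊗ Hom(K, E) ≅ Hom(Hom(M, K), E)` for finite `M` and injective `E`
-/

universe u

open TensorProduct

noncomputable section

namespace Groth.Agent.InjHullLib

variable {R : Type u} [CommRing R] (K E : Type u) [AddCommGroup K] [Module R K] [AddCommGroup E] [Module R E]

/-- `m ⊗ φ ↦ (ψ ↦ φ (ψ m))`. -/
def homTensorMap (M : Type u) [AddCommGroup M] [Module R M] :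
    M ⊗[R] (K →ₗ[R] E) →ₗ[R] (M →ₗ[R] K) →ₗ[R] E :=
  TensorProduct.lift (LinearMap.mk₂ R (fun m φ => φ ∘ₗ LinearMap.applyₗ m)
    (fun m₁ m₂ φ => by ext; simp) (fun r m φ => by ext; simp)
    (fun m φ₁ φ₂ => by ext; simp) (fun r m φ => by ext; simp))

variable {K E}

theorem homTensorMap_tmul {M : Type u} [AddCommGroup M] [Module R M] (m : M) (φ : K →ₗ[R] E)
    (ψ : M →ₗ[R] K) : homTensorMap K E M (m ⊗ₜ φ) ψ = φ (ψ m) := rfl

theorem homTensorMap_natural {M N : Type u} [AddCommGroup M] [Module R M] [AddCommGroup N] [Module R N]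
    (f : M →ₗ[R] N) (z : M ⊗[R] (K →ₗ[R] E)) :
    homTensorMap K E N (f.rTensor _ z) = homTensorMap K E M z ∘ₗ LinearMap.lcomp R K f := by
  induction z with
  | zero => simp
  | tmul m φ => rfl
  | add a b ha hb => simp only [map_add, ha, hb, LinearMap.add_comp]

theorem homTensorMap_pi_bijective (k : ℕ) : Function.Bijective (homTensorMap (R := R) K E (Fin k → R)) := by
  let q : K →ₗ[R] Fin k → ((Fin k → R) →ₗ[R] K) := LinearMap.pi fun j =>
    { toFun := fun x => (LinearMap.toSpanSingleton R K x) ∘ₗ LinearMap.proj j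
      map_add' := fun a b => by ext; simp
      map_smul' := fun r a => by ext; simp [smul_comm r] }
  let ψ : ((((Fin k → R) →ₗ[R] K)) →ₗ[R] E) →ₗ[R] (Fin k → R) ⊗[R] (K →ₗ[R] E) :=
    ∑ j, (TensorProduct.mk R (Fin k → R) (K →ₗ[R] E) (Pi.single j 1)) ∘ₗ
      LinearMap.lcomp R E (LinearMap.proj j ∘ₗ q)
  have hright : ∀ x, homTensorMap K E _ (ψ x) = x := fun x => by
    refine LinearMap.ext fun g => ?_
    simp only [ψ, LinearMap.coe_sum, Finset.sum_apply, LinearMap.comp_apply, map_sum,
      TensorProduct.mk_apply, homTensorMap_tmul]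
    change ∑ j, x (q (g (Pi.single j 1)) j) = x g
    rw [← map_sum]
    congr 1
    refine LinearMap.ext fun v => ?_
    rw [LinearMap.sum_apply]
    change ∑ j, v j • g (Pi.single j 1) = g v
    conv_rhs => rw [show v = ∑ j, v j • (Pi.single j 1 : Fin k → R) from funext fun l => by
      simp [Finset.sum_apply, Pi.single_apply]]
    rw [map_sum]
    exact Finset.sum_congr rfl fun j _ => (map_smul g _ _).symm
  have hleft : ∀ z, ψ (homTensorMap K E _ z) = z := fun z => by
    induction z with
    | zero => simp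
    | tmul m φ =>
      simp only [ψ, LinearMap.coe_sum, Finset.sum_apply, LinearMap.comp_apply, TensorProduct.mk_apply]
      have hj : ∀ j, LinearMap.lcomp R E (LinearMap.proj j ∘ₗ q)
          (homTensorMap K E _ (m ⊗ₜ φ)) = m j • φ := fun j => by
        refine LinearMap.ext fun x => ?_
        change φ (m j • x) = m j • φ x
        rw [map_smul]
      simp only [hj, TensorProduct.tmul_smul, TensorProduct.smul_tmul']
      rw [← TensorProduct.sum_tmul]
      congr 1
      exact (funext fun l => by simp [Finset.sum_apply, Pi.single_apply])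
    | add a b ha hb => simp only [map_add, ha, hb]
  exact ⟨Function.LeftInverse.injective hleft, Function.RightInverse.surjective hright⟩

theorem homTensorMap_surjective (hE : Module.Injective R E) (M : Type u) [AddCommGroup M] [Module R M]
    [Module.Finite R M] : Function.Surjective (homTensorMap (R := R) K E M) := by
  obtain ⟨k, π, hπ⟩ := Module.Finite.exists_fin' R M
  intro x
  have hinj : Function.Injective (LinearMap.lcomp R K π) := fun a b h =>
    LinearMap.ext fun m => by
      obtain ⟨v, rfl⟩ := hπ m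
      exact LinearMap.congr_fun h v
  obtain ⟨y, hy⟩ := hE.out (LinearMap.lcomp R K π) hinj x
  obtain ⟨z, rfl⟩ := (homTensorMap_pi_bijective k).2 y
  refine ⟨π.rTensor _ z, ?_⟩
  rw [homTensorMap_natural]
  exact LinearMap.ext hy

theorem homTensorMap_bijective [IsNoetherianRing R] (hE : Module.Injective R E) (M : Type u)
    [AddCommGroup M] [Module R M] [Module.Finite R M] : Function.Bijective (homTensorMap (R := R) K E M) := by
  refine ⟨?_, homTensorMap_surjective hE M⟩
  obtain ⟨k, π, hπ⟩ := Module.Finite.exists_fin' R M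
  obtain ⟨l, ρ, hρ⟩ := Module.Finite.exists_fin' R (LinearMap.ker π)
  let σ : (Fin l → R) →ₗ[R] Fin k → R := (LinearMap.ker π).subtype ∘ₗ ρ
  rw [injective_iff_map_eq_zero]
  intro z hz
  obtain ⟨z', rfl⟩ := LinearMap.rTensor_surjective _ hπ z
  let x := homTensorMap K E _ z'
  have hx : ∀ g : M →ₗ[R] K, x (g ∘ₗ π) = 0 := fun g => by
    have h1 := homTensorMap_natural π z'
    rw [hz] at h1
    exact (LinearMap.congr_fun h1 g).symm
  let τ : ((Fin k → R) →ₗ[R] K) →ₗ[R] ((Fin l → R) →ₗ[R] K) := LinearMap.lcomp R K σ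
  have hker : LinearMap.ker τ ≤ LinearMap.ker x := by
    intro g hg
    rw [LinearMap.mem_ker] at hg ⊢
    have hle : LinearMap.ker π ≤ LinearMap.ker g := fun v hv => by
      obtain ⟨w, hw⟩ := hρ ⟨v, hv⟩
      have h2 := LinearMap.congr_fun hg w
      simp only [τ, σ, LinearMap.lcomp_apply, LinearMap.comp_apply, hw, Submodule.subtype_apply,
        LinearMap.zero_apply] at h2
      exact h2
    have h3 : g = ((LinearMap.ker π).liftQ g hle ∘ₗ
        (π.quotKerEquivOfSurjective hπ).symm.toLinearMap) ∘ₗ π := by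
      refine LinearMap.ext fun v => ?_
      have : (π.quotKerEquivOfSurjective hπ).symm (π v) = Submodule.Quotient.mk v := by
        rw [LinearEquiv.symm_apply_eq]; rfl
      simp only [LinearMap.comp_apply, LinearEquiv.coe_coe, this]
      rfl
    rw [h3]
    exact hx _
  obtain ⟨y, hy⟩ := hE.out ((LinearMap.ker τ).liftQ τ le_rfl)
    (LinearMap.ker_eq_bot.1 (Submodule.ker_liftQ_eq_bot _ _ _ le_rfl)) ((LinearMap.ker τ).liftQ x hker)
  obtain ⟨u, rfl⟩ := (homTensorMap_pi_bijective l).2 y
  have hz' : σ.rTensor _ u = z' := by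
    refine (homTensorMap_pi_bijective k).1 (LinearMap.ext fun g => ?_)
    rw [homTensorMap_natural]
    exact hy (Submodule.Quotient.mk g)
  rw [← hz', ← LinearMap.comp_apply, ← LinearMap.rTensor_comp,
    show π ∘ₗ σ = 0 from LinearMap.ext fun v => (ρ v).2, LinearMap.rTensor_zero, LinearMap.zero_apply]

/-- `M ⊗ Hom(K, E) ≅ Hom(Hom(M, K), E)`. -/
def homTensorEquiv [IsNoetherianRing R] (hE : Module.Injective R E) (M : Type u) [AddCommGroup M]
    [Module R M] [Module.Finite R M] : M ⊗[R] (K →ₗ[R] E) ≃ₗ[R] ((M →ₗ[R] K) →ₗ[R] E) :=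
  LinearEquiv.ofBijective (homTensorMap K E M) (homTensorMap_bijective hE M)

end Groth.Agent.InjHullLib
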