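import Groth.Agent.Lib.InjHull.Matlis
import Mathlib.RingTheory.Localization.Module
import Mathlib.Algebra.Module.LocalizedModule.Submodule
import Mathlib.RingTheory.Noetherian.Basic

/-!
# Injective hulls under quotient and localization
-/

universe u

open InjHull

namespace Groth.Agent.InjHullLib

variable {R : Type u} [CommRing R]

section Quotient

variable {b : Ideal R} {M : Type u} [AddCommGroup M] [Module R M] [Module (R ⧸ b) M]
  [IsScalarTower R (R ⧸ b) M] {E : Type u} [AddCommGroup E] [Module R E]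

omit [Module (R ⧸ b) M] [IsScalarTower R (R ⧸ b) M] in
theorem mk_smul_torsion (r : R) (x : Submodule.torsionBySet R E (b : Set R)) :
    (Ideal.Quotient.mk b r) • x = r • x := rfl

omit [Module (R ⧸ b) M] [IsScalarTower R (R ⧸ b) M] in
/-- `E[b]` is injective over `R ⧸ b` if `E` is injective over `R`. -/
theorem injective_torsionBySet (hE : Module.Injective R E) :
    Module.Injective (R ⧸ b) (Submodule.torsionBySet R E (b : Set R)) := by
  refine ⟨fun X Y _ _ _ _ f hf g => ?_⟩
  let _ : Module R X := Module.compHom X (Ideal.Quotient.mk b)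
  let _ : Module R Y := Module.compHom Y (Ideal.Quotient.mk b)
  let f' : X →ₗ[R] Y :=
    { toFun := f, map_add' := map_add f, map_smul' := fun r x => map_smul f (Ideal.Quotient.mk b r) x }
  let g' : X →ₗ[R] E :=
    { toFun := fun x => (g x : E)
      map_add' := fun x y => by rw [map_add]; rfl
      map_smul' := fun r x => by
        rw [show r • x = Ideal.Quotient.mk b r • x from rfl, map_smul, mk_smul_torsion]; rfl }
  obtain ⟨h, hh⟩ := hE.out f' hf g'
  have hmem : ∀ y, h y ∈ Submodule.torsionBySet R E (b : Set R) := fun y => by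
    rw [mem_torsion_iff]
    intro r hr
    rw [← map_smul, show r • y = Ideal.Quotient.mk b r • y from rfl,
      Ideal.Quotient.eq_zero_iff_mem.2 hr, zero_smul, map_zero]
  refine ⟨{ toFun := fun y => ⟨h y, hmem y⟩, map_add' := fun x y => Subtype.ext (map_add h x y)
            map_smul' := fun c y => ?_ }, fun x => Subtype.ext (hh x)⟩
  obtain ⟨r, rfl⟩ := Ideal.Quotient.mk_surjective c
  rw [RingHom.id_apply, mk_smul_torsion]
  exact Subtype.ext (map_smul h r y)

theorem exists_hull_torsionBySet {f : M →ₗ[R] E} (hf : IsInjectiveHull f) :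
    ∃ g : M →ₗ[R ⧸ b] (Submodule.torsionBySet R E (b : Set R)), IsInjectiveHull g ∧
      ∀ x : M, ((g x : Submodule.torsionBySet R E (b : Set R)) : E) = f x := by
  have hmem : ∀ x, f x ∈ Submodule.torsionBySet R E (b : Set R) := fun x => by
    rw [mem_torsion_iff]
    intro r hr
    rw [← map_smul, ← IsScalarTower.algebraMap_smul (R ⧸ b) r x, Ideal.Quotient.algebraMap_eq,
      Ideal.Quotient.eq_zero_iff_mem.2 hr, zero_smul, map_zero]
  let g : M →ₗ[R ⧸ b] Submodule.torsionBySet R E (b : Set R) :=
    { toFun := fun x => ⟨f x, hmem x⟩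
      map_add' := fun x y => Subtype.ext (map_add f x y)
      map_smul' := fun c x => by
        obtain ⟨r, rfl⟩ := Ideal.Quotient.mk_surjective c
        rw [RingHom.id_apply, mk_smul_torsion]
        refine Subtype.ext (Eq.trans ?_ (map_smul f r x))
        exact congrArg f (by rw [← Ideal.Quotient.algebraMap_eq, IsScalarTower.algebraMap_smul]) }
  refine ⟨g, ⟨?_, injective_torsionBySet hf.isInjective⟩, fun x => rfl⟩
  rw [isEssentialInj_iff]
  refine ⟨fun x y h => hf.injective (congrArg Subtype.val h), fun x hx => ?_⟩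
  obtain ⟨r, m, hm, hm0⟩ := hf.exists_smul (x := (x : E)) (fun h => hx (Subtype.ext h))
  refine ⟨Ideal.Quotient.mk b r, ⟨m, Subtype.ext hm⟩, fun h => hm0 (hf.injective ?_)⟩
  rw [map_zero, hm]
  exact congrArg Subtype.val h

end Quotient

section Localization

variable [IsNoetherianRing R] {M E : Type u} [AddCommGroup M] [Module R M] [AddCommGroup E]
  [Module R E]

theorem localized_exists_smul (S : Submonoid R) (N : Submodule R M)
    (hN : ∀ x : M, x ≠ 0 → ∃ r : R, r • x ∈ N ∧ r • x ≠ 0)
    (z : LocalizedModule S M) (hz : z ≠ 0) :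
    ∃ r : R, ∃ y ∈ N, ∃ t : S, r • z = LocalizedModule.mk y t ∧ r • z ≠ 0 := by
  classical
  induction z using LocalizedModule.induction_on with
  | _ x t =>
  have hx : ∀ s ∈ S, s • x ≠ 0 := fun s hs h0 => hz (by
    rw [← LocalizedModule.zero_mk t, LocalizedModule.mk_eq]
    exact ⟨⟨s, hs⟩, by simp only [Submonoid.smul_def, smul_zero]; rw [smul_comm, h0, smul_zero]⟩)
  obtain ⟨_, ⟨s, hs, rfl⟩, hmax⟩ := set_has_maximal_iff_noetherian.2 (inferInstance : IsNoetherianRing R)
    {J | ∃ s ∈ S, LinearMap.ker (LinearMap.toSpanSingleton R M (s • x)) = J}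
    ⟨_, 1, S.one_mem, rfl⟩
  let I : Submodule R R := N.comap (LinearMap.toSpanSingleton R M (s • x))
  by_contra hcon
  push Not at hcon
  have hI : ∀ a ∈ I, a • (s • x) ∈ monoidTors S M := fun a ha => by
    have h := hcon (a * s) (a • s • x) ha t (by rw [LocalizedModule.smul'_mk, mul_smul])
    rw [mul_smul, LocalizedModule.smul'_mk, LocalizedModule.smul'_mk,
      ← LocalizedModule.zero_mk t, LocalizedModule.mk_eq] at h
    obtain ⟨v, hv⟩ := h
    refine mem_monoidTors_iff.2 ⟨v * t, S.mul_mem v.2 t.2, ?_⟩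
    simpa [Submonoid.smul_def, mul_smul, smul_zero] using hv
  have hI' : I.map (LinearMap.toSpanSingleton R M (s • x)) ≤ monoidTors S M := by
    rintro _ ⟨a, ha, rfl⟩; exact hI a ha
  obtain ⟨t', ht', hkill⟩ : ∃ t' ∈ S, ∀ y ∈ I.map (LinearMap.toSpanSingleton R M (s • x)), t' • y = 0 := by
    have : ∀ P : Submodule R M, P.FG → P ≤ monoidTors S M → ∃ t' ∈ S, ∀ y ∈ P, t' • y = 0 := by
      intro P hP
      induction P, hP using Submodule.fg_induction with
      | singleton y =>
        intro h
        obtain ⟨t', ht', h0⟩ := mem_monoidTors_iff.1 (h (Submodule.mem_span_singleton_self y))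
        refine ⟨t', ht', fun w hw => ?_⟩
        obtain ⟨c, rfl⟩ := Submodule.mem_span_singleton.1 hw
        rw [smul_comm, h0, smul_zero]
      | sup N1 N2 _ _ ih1 ih2 =>
        intro h
        obtain ⟨t1, h1S, h1⟩ := ih1 (le_sup_left.trans h)
        obtain ⟨t2, h2S, h2⟩ := ih2 (le_sup_right.trans h)
        refine ⟨t1 * t2, S.mul_mem h1S h2S, fun w hw => ?_⟩
        obtain ⟨w1, hw1, w2, hw2, rfl⟩ := Submodule.mem_sup.1 hw
        rw [smul_add, mul_smul, mul_smul, smul_comm t1 t2 w1, h1 w1 hw1, h2 w2 hw2, smul_zero,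
          smul_zero, add_zero]
    exact this _ ((IsNoetherian.noetherian I).map _) hI'
  have hmem : ∀ a : R, a ∈ LinearMap.ker (LinearMap.toSpanSingleton R M ((t' * s) • x)) ↔
      a • t' • s • x = 0 := fun a => by simp [mul_smul]
  have hle : LinearMap.ker (LinearMap.toSpanSingleton R M (s • x)) ≤
      LinearMap.ker (LinearMap.toSpanSingleton R M ((t' * s) • x)) := fun a ha => by
    rw [hmem, smul_comm a t', show a • s • x = 0 from ha, smul_zero]
  have heq := (lt_or_eq_of_le hle).resolve_left (hmax _ ⟨_, S.mul_mem ht' hs, rfl⟩)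
  obtain ⟨r, hrN, hr0⟩ := hN (s • x) (hx s hs)
  refine hr0 ?_
  have h1 : r ∈ LinearMap.ker (LinearMap.toSpanSingleton R M ((t' * s) • x)) := by
    rw [hmem, smul_comm]
    exact hkill _ ⟨r, hrN, rfl⟩
  rw [← heq] at h1
  exact h1

theorem localized_essential (S : Submonoid R) (N : Submodule R M)
    (hN : ∀ N' : Submodule R M, N' ≠ ⊥ → N' ⊓ N ≠ ⊥)
    (L : Submodule (Localization S) (LocalizedModule S M)) (hL : L ≠ ⊥) :
    L ⊓ Submodule.localized S N ≠ ⊥ := by
  obtain ⟨z, hz, hz0⟩ := Submodule.exists_mem_ne_zero_of_ne_bot hL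
  obtain ⟨r, y, hy, t, he, h0⟩ := localized_exists_smul S N (fun x hx => by
    obtain ⟨w, hw, hw0⟩ := Submodule.exists_mem_ne_zero_of_ne_bot
      (hN (Submodule.span R {x}) (by simpa using hx))
    obtain ⟨c, rfl⟩ := Submodule.mem_span_singleton.1 hw.1
    exact ⟨c, hw.2, hw0⟩) z hz0
  intro hbot
  refine h0 ((Submodule.eq_bot_iff _).1 hbot (r • z) ⟨L.smul_of_tower_mem r hz, ?_⟩)
  rw [he]
  exact (Submodule.mem_localized' (Localization S) S (LocalizedModule.mkLinearMap S M) N _).2
    ⟨y, hy, t, (IsLocalizedModule.mk_eq_mk' t y).symm⟩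

theorem injective_localization (hE : Module.Injective R E) (S : Submonoid R) :
    Module.Injective (Localization S) (LocalizedModule S E) := by
  obtain ⟨C, hC⟩ := exists_isCompl_of_injective _ (injective_monoidTors hE S)
  let φ : C →ₗ[R] LocalizedModule S E := LocalizedModule.mkLinearMap S E ∘ₗ C.subtype
  have hφ : Function.Bijective φ := by
    constructor
    · rw [injective_iff_map_eq_zero]
      intro c hc
      have : (c : E) ∈ monoidTors S E ⊓ C := ⟨hc, c.2⟩
      rw [hC.inf_eq_bot, Submodule.mem_bot] at this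
      exact Subtype.ext this
    · intro z
      obtain ⟨x, rfl⟩ := mkLinearMap_surjective_of_injective hE S z
      obtain ⟨t, ht, c, hc, rfl⟩ :=
        Submodule.mem_sup.1 (hC.sup_eq_top.ge (Submodule.mem_top (x := x)))
      refine ⟨⟨c, hc⟩, ?_⟩
      have ht0 : LocalizedModule.mkLinearMap S E t = 0 := ht
      change LocalizedModule.mkLinearMap S E c = _
      rw [map_add, ht0, zero_add]
  have hR : Module.Injective R (LocalizedModule S E) :=
    injective_of_linearEquiv (LinearEquiv.ofBijective φ hφ) (injective_of_isCompl hC.symm hE)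
  refine ⟨fun X Y _ _ _ _ f hf g => ?_⟩
  let _ : Module R X := Module.compHom X (algebraMap R (Localization S))
  let _ : Module R Y := Module.compHom Y (algebraMap R (Localization S))
  have : IsScalarTower R (Localization S) X := IsScalarTower.of_algebraMap_smul fun _ _ => rfl
  have : IsScalarTower R (Localization S) Y := IsScalarTower.of_algebraMap_smul fun _ _ => rfl
  obtain ⟨h, hh⟩ := hR.out (f.restrictScalars R) hf (g.restrictScalars R)
  exact ⟨h.extendScalarsOfIsLocalization S (Localization S), hh⟩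

theorem isInjectiveHull_localization (S : Submonoid R) {f : M →ₗ[R] E} (hf : IsInjectiveHull f) :
    IsInjectiveHull (LocalizedModule.map S f) := by
  have hess := (isEssentialInj_iff f).1 hf.toIsEssentialInj
  refine ⟨?_, injective_localization hf.isInjective S⟩
  rw [isEssentialInj_iff]
  refine ⟨LocalizedModule.map_injective S f hf.injective, fun z hz => ?_⟩
  obtain ⟨r, y, ⟨m, rfl⟩, t, he, h0⟩ := localized_exists_smul S (LinearMap.range f) hess.2 z hz
  refine ⟨algebraMap R (Localization S) r, ⟨LocalizedModule.mk m t, ?_⟩, ?_⟩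
  · rw [LocalizedModule.map_mk, algebraMap_smul, he]
  · rwa [algebraMap_smul]

end Localization

end Groth.Agent.InjHullLib
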