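import Groth.Agent.Lib.InjHull.Matlis
import Groth.Agent.Lib.InjHull.Socle
import Mathlib.RingTheory.HopkinsLevitzki
import Mathlib.RingTheory.AdicCompletion.Algebra
import Mathlib.RingTheory.AdicCompletion.Basic

/-!
# Endomorphisms of the injective hull of the residue field; Matlis duality
-/

universe u

open InjHull IsLocalRing

namespace Groth.Agent.InjHullLib

variable {R : Type u} [CommRing R]

/-- `Hom(R ⧸ a, E) = E[a]`. -/
def homQuotientEquiv (a : Ideal R) (E : Type u) [AddCommGroup E] [Module R E] :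
    ((R ⧸ a) →ₗ[R] E) ≃ₗ[R] Submodule.torsionBySet R E (a : Set R) where
  toFun φ := ⟨φ 1, mem_torsion_iff.2 fun r hr => by
    rw [← map_smul, show r • (1 : R ⧸ a) = 0 by
      rw [Algebra.smul_def, mul_one, Ideal.Quotient.algebraMap_eq, Ideal.Quotient.eq_zero_iff_mem]
      exact hr, map_zero]⟩
  map_add' φ ψ := rfl
  map_smul' r φ := rfl
  invFun x := Submodule.liftQ a (LinearMap.toSpanSingleton R E x.1)
    fun r hr => mem_torsion_iff.1 x.2 r hr
  left_inv φ := by
    ext
    exact one_smul R (φ 1)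
  right_inv x := Subtype.ext (one_smul R x.1)

theorem homQuotientEquiv_apply (a : Ideal R) {E : Type u} [AddCommGroup E] [Module R E]
    (φ : (R ⧸ a) →ₗ[R] E) (r : R) :
    φ (Ideal.Quotient.mk a r) = r • ((homQuotientEquiv a E φ : _) : E) := by
  change φ (Ideal.Quotient.mk a r) = r • φ 1
  rw [← map_smul, Algebra.smul_def, mul_one, Ideal.Quotient.algebraMap_eq]

variable [IsLocalRing R]

theorem isFiniteLength_quotient [IsNoetherianRing R] {a : Ideal R} {N : ℕ}
    (h : maximalIdeal R ^ N ≤ a) : IsFiniteLength R (R ⧸ a) := by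
  rcases subsingleton_or_nontrivial (R ⧸ a) with hs | hs
  · exact .of_subsingleton
  have : IsLocalRing (R ⧸ a) := .of_surjective' (Ideal.Quotient.mk a) Ideal.Quotient.mk_surjective
  have : IsArtinianRing (R ⧸ a) := by
    rw [isArtinianRing_iff_isNilpotent_maximalIdeal]
    refine ⟨N, ?_⟩
    have hm : maximalIdeal (R ⧸ a) ≤ (maximalIdeal R).map (Ideal.Quotient.mk a) := by
      have h1 : ((maximalIdeal R).map (Ideal.Quotient.mk a)).IsMaximal := by
        refine (Ideal.map_eq_top_or_isMaximal_of_surjective _ Ideal.Quotient.mk_surjective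
          inferInstance).resolve_left fun h' => ?_
        have h2 := congrArg (Ideal.comap (Ideal.Quotient.mk a)) h'
        rw [Ideal.comap_map_of_surjective _ Ideal.Quotient.mk_surjective, Ideal.comap_top,
          ← RingHom.ker_eq_comap_bot, Ideal.mk_ker, sup_eq_left.2 (le_maximalIdeal
            (Ideal.Quotient.nontrivial_iff.1 hs))] at h2
        exact (maximalIdeal.isMaximal R).ne_top h2
      exact (eq_maximalIdeal h1).ge
    rw [Submodule.zero_eq_bot, eq_bot_iff]
    refine (Ideal.pow_right_mono hm N).trans ?_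
    rw [← Ideal.map_pow]
    refine (Ideal.map_mono h).trans (le_of_eq ?_)
    exact Ideal.map_quotient_self a
  have : IsArtinian (R ⧸ a) (R ⧸ a) := this
  have : IsArtinian R (R ⧸ a) :=
    isArtinian_of_surjective_algebraMap (R := R ⧸ a) (S := R) (M := R ⧸ a) Ideal.Quotient.mk_surjective
  exact isFiniteLength_iff_isNoetherian_isArtinian.2 ⟨inferInstance, inferInstance⟩

variable {E : Type u} [AddCommGroup E] [Module R E] {f : ResidueField R →ₗ[R] E}

/-- An endomorphism of the hull is a scalar on each `E[m^n]`. -/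
theorem exists_scalar_on_torsion [IsNoetherianRing R] (hf : IsInjectiveHull f) (φ : E →ₗ[R] E) (n : ℕ) :
    ∃ r : R, ∀ e : E, (∀ a ∈ maximalIdeal R ^ n, a • e = 0) → φ e = r • e := by
  let Q := R ⧸ maximalIdeal R ^ n
  let ψ : (Q →ₗ[R] E) →ₗ[R] E := φ ∘ₗ LinearMap.applyₗ (1 : Q)
  obtain ⟨q, hq⟩ := (applyₗ_bijective hf (M := Q) (isFiniteLength_quotient le_rfl)).2 ψ
  obtain ⟨r, rfl⟩ := Ideal.Quotient.mk_surjective q
  refine ⟨r, fun e he => ?_⟩
  let χ := (homQuotientEquiv (maximalIdeal R ^ n) E).symm ⟨e, mem_torsion_iff.2 he⟩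
  have h1 : χ (Ideal.Quotient.mk _ r) = φ (χ 1) := LinearMap.congr_fun hq χ
  have h2 : χ 1 = e := one_smul R e
  rw [homQuotientEquiv_apply, LinearEquiv.apply_symm_apply, h2] at h1
  exact h1.symm

/-- A scalar killing `E[m^n]` lies in `m^n`. -/
theorem mem_pow_of_forall_smul_eq_zero (hf : IsInjectiveHull f) {r : R} {n : ℕ}
    (h : ∀ e : E, (∀ a ∈ maximalIdeal R ^ n, a • e = 0) → r • e = 0) : r ∈ maximalIdeal R ^ n := by
  have h1 : r ∈ Module.annihilator R (R ⧸ maximalIdeal R ^ n) := by
    rw [annihilator_dual hf, Module.mem_annihilator]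
    intro χ
    refine (homQuotientEquiv _ E).injective ?_
    rw [map_smul, map_zero]
    exact Subtype.ext (h _ (mem_torsion_iff.1 (homQuotientEquiv _ E χ).2))
  rwa [Ideal.annihilator_quotient] at h1

theorem exists_pow_smul_eq_zero [IsNoetherianRing R] (hf : IsInjectiveHull f) (e : E) :
    ∃ n : ℕ, ∀ a ∈ maximalIdeal R ^ n, a • e = 0 :=
  isPowerTorsion_hull (m := maximalIdeal R) hf e

/-- Every endomorphism is a scalar when `R` is complete. -/
theorem exists_eq_smul_id [IsNoetherianRing R] [IsAdicComplete (maximalIdeal R) R]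
    (hf : IsInjectiveHull f) (φ : E →ₗ[R] E) : ∃ r : R, φ = r • LinearMap.id := by
  choose s hs using exists_scalar_on_torsion hf φ
  have hcompat : ∀ {a b : ℕ}, a ≤ b → s a ≡ s b [SMOD (maximalIdeal R ^ a • ⊤ : Submodule R R)] := by
    intro a b hab
    rw [SModEq.sub_mem, smul_eq_mul, Ideal.mul_top]
    refine mem_pow_of_forall_smul_eq_zero hf fun e he => ?_
    rw [sub_smul, ← hs a e he, ← hs b e fun t ht => he t (Ideal.pow_le_pow_right hab ht), sub_self]
  obtain ⟨r, hr⟩ := IsPrecomplete.prec inferInstance hcompat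
  refine ⟨r, LinearMap.ext fun e => ?_⟩
  obtain ⟨n, hn⟩ := exists_pow_smul_eq_zero hf e
  have h1 := hr n
  rw [SModEq.sub_mem, smul_eq_mul, Ideal.mul_top] at h1
  rw [hs n e hn, LinearMap.smul_apply, LinearMap.id_apply, ← sub_eq_zero, ← sub_smul, hn _ h1]

/-- Over a complete ring finite modules are reflexive. -/
theorem applyₗ_bijective_of_finite [IsNoetherianRing R] [IsAdicComplete (maximalIdeal R) R]
    (hf : IsInjectiveHull f) (M : Type u) [AddCommGroup M] [Module R M] [Module.Finite R M] :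
    Function.Bijective (LinearMap.applyₗ : M →ₗ[R] (M →ₗ[R] E) →ₗ[R] E) := by
  classical
  refine ⟨applyₗ_injective hf, fun ψ => ?_⟩
  obtain ⟨n, x, hx⟩ := Module.Finite.exists_fin (R := R) (M := M)
  let ι : (M →ₗ[R] E) →ₗ[R] (Fin n → E) := LinearMap.pi fun i => LinearMap.applyₗ (x i)
  have hι : Function.Injective ι := fun a b h => LinearMap.ext_on_range hx fun i => congrFun h i
  obtain ⟨Φ, hΦ⟩ := (Module.Baer.iff_injective.2 hf.isInjective).extension_property ι hι ψ
  choose r hr using fun i => exists_eq_smul_id hf (Φ ∘ₗ LinearMap.single R (fun _ : Fin n => E) i)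
  refine ⟨∑ i, r i • x i, LinearMap.ext fun φ => ?_⟩
  rw [← hΦ, LinearMap.comp_apply]
  conv_rhs => rw [← Finset.univ_sum_single (ι φ), map_sum]
  show φ (∑ i, r i • x i) = _
  rw [map_sum]
  refine Finset.sum_congr rfl fun i _ => ?_
  have := LinearMap.congr_fun (hr i) (φ (x i))
  rw [LinearMap.comp_apply, LinearMap.smul_apply, LinearMap.id_apply] at this
  rw [map_smul, ← this]
  rfl

end Groth.Agent.InjHullLib
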