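import Groth.Agent.Lib.InjHull.Duality
import Mathlib.Algebra.Category.ModuleCat.ChangeOfRings
import Mathlib.Algebra.Category.ModuleCat.Injective

/-!
# Hulls of residue fields through `Hom_A(B, E)`
-/

universe u

open InjHull IsLocalRing CategoryTheory

namespace Groth.Agent.InjHullLib

variable {A B : Type u} [CommRing A] [CommRing B] [Algebra A B] {E : Type u} [AddCommGroup E] [Module A E]

/-- The elements of `coextendScalars` as `A`-linear maps on `B`. -/
noncomputable def coextendToHom :
    (ModuleCat.coextendScalars (algebraMap A B)).obj (ModuleCat.of A E) →+ (B →ₗ[A] E) where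
  toFun x :=
    { toFun := fun b => ModuleCat.CoextendScalars.equiv (algebraMap A B) (ModuleCat.of A E) x b
      map_add' := fun b c => map_add (ModuleCat.CoextendScalars.equiv (algebraMap A B) (ModuleCat.of A E) x) b c
      map_smul' := fun a b => by
        rw [Algebra.smul_def]
        exact (ModuleCat.CoextendScalars.equiv (algebraMap A B) (ModuleCat.of A E) x).map_smul a b }
  map_zero' := LinearMap.ext fun _ => rfl
  map_add' _ _ := LinearMap.ext fun _ => rfl

theorem coextendToHom_smul (x : (ModuleCat.coextendScalars (algebraMap A B)).obj (ModuleCat.of A E))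
    (s b : B) : coextendToHom (s • x) b = coextendToHom x (b * s) := rfl

theorem coextendToHom_bijective :
    Function.Bijective (coextendToHom (A := A) (B := B) (E := E)) := by
  refine ⟨fun x y h => ModuleCat.CoextendScalars.ext (LinearMap.ext fun b => LinearMap.congr_fun h b), fun φ => ?_⟩
  refine ⟨(ModuleCat.CoextendScalars.equiv (algebraMap A B) (ModuleCat.of A E)).symm
    { toFun := fun b => φ b
      map_add' := fun b c => map_add φ b c
      map_smul' := fun a (b : B) => by
        refine Eq.trans ?_ (φ.map_smul a b)
        exact congrArg φ (Algebra.smul_def a (b : B)).symm }, ?_⟩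
  exact LinearMap.ext fun _ => rfl

theorem injective_coextend (hE : Module.Injective A E) :
    Module.Injective B ((ModuleCat.coextendScalars (algebraMap A B)).obj (ModuleCat.of A E)) := by
  rw [Module.injective_iff_injective_object]
  have : CategoryTheory.Injective (ModuleCat.of A E) := (Module.injective_iff_injective_object A E).1 hE
  exact CategoryTheory.Injective.injective_of_adjoint
    (ModuleCat.restrictCoextendScalarsAdj (algebraMap A B)) (ModuleCat.of A E)

variable [IsLocalRing A] [IsLocalRing B] [IsNoetherianRing A]

/-- The socle of a module of `A`-linear forms on `B` is one copy of the residue field of `B`. -/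
theorem exists_residueMap_of_forms {f : ResidueField A →ₗ[A] E} (hf : IsInjectiveHull f)
    [Module.Finite A (ResidueField B)] {X : Type u} [AddCommGroup X] [Module B X]
    (Θ : X →+ (B →ₗ[A] E)) (hΘ : ∀ (s : B) (x : X) (b : B), Θ (s • x) b = Θ x (b * s))
    (hinj : Function.Injective Θ)
    (hsur : ∀ φ : B →ₗ[A] E, (∀ r ∈ maximalIdeal B, φ r = 0) → ∃ x, Θ x = φ) :
    ∃ g : ResidueField B →ₗ[B] X, Function.Injective g ∧
      Submodule.torsionBySet B X (maximalIdeal B : Set B) ≤ LinearMap.range g := by
  let k := ResidueField B
  let res : B →ₗ[A] k := (IsScalarTower.toAlgHom A B k).toLinearMap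
  have hres : Function.Surjective res := residue_surjective
  -- `m_A` kills `k`
  have hkill : ∀ a ∈ maximalIdeal A, ∀ c : k, a • c = 0 := by
    by_contra! hne
    obtain ⟨a, ha, c, hc⟩ := hne
    refine (Submodule.top_ne_ideal_smul_of_le_jacobson_annihilator (M := k)
      (maximalIdeal_le_jacobson (Module.annihilator A k))) (Eq.symm ?_)
    rw [eq_top_iff]
    intro d _
    have hu : algebraMap A k a ≠ 0 := fun h => hc (by rw [Algebra.smul_def, h, zero_mul])
    rw [show d = a • ((algebraMap A k a)⁻¹ * d) by rw [Algebra.smul_def, ← mul_assoc, mul_inv_cancel₀ hu, one_mul]]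
    exact Submodule.smul_mem_smul ha trivial
  have hfl : IsFiniteLength A k := by
    obtain ⟨n, s, hs⟩ := Module.Finite.exists_fin (R := A) (M := k)
    let p : (Fin n → (A ⧸ maximalIdeal A ^ 1)) →ₗ[A] k :=
      LinearMap.lsum A _ A fun i => Submodule.liftQ _ (LinearMap.toSpanSingleton A k (s i))
        fun a ha => hkill a (by simpa using ha) _
    have hp : Function.Surjective p := by
      rw [← LinearMap.range_eq_top, eq_top_iff, ← hs, Submodule.span_le]
      rintro _ ⟨i, rfl⟩
      exact ⟨Pi.single i (Submodule.Quotient.mk 1), by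
        simp [p, Pi.single_apply, apply_ite]
        exact one_smul A (s i)⟩
    refine Module.length_ne_top_iff.1 (ne_top_of_le_ne_top ?_ (Module.length_le_of_surjective p hp))
    have hfl1 : IsFiniteLength A (A ⧸ maximalIdeal A ^ 1) := isFiniteLength_quotient le_rfl
    have : IsArtinian A (A ⧸ maximalIdeal A ^ 1) := (isFiniteLength_iff_isNoetherian_isArtinian.1 hfl1).2
    exact Module.length_ne_top
  obtain ⟨ψ, hψ⟩ := exists_dual_ne_zero hf (M := k) (x := (1 : k)) one_ne_zero
  obtain ⟨x₀, hx₀⟩ := hsur (ψ ∘ₗ res) fun r hr => by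
    show ψ (res r) = 0
    rw [show res r = 0 from (residue_eq_zero_iff r).2 hr, map_zero]
  have hx₀tor : ∀ r ∈ maximalIdeal B, r • x₀ = 0 := fun r hr => hinj <| LinearMap.ext fun b => by
    rw [hΘ, hx₀, map_zero, LinearMap.zero_apply]
    show ψ (res (b * r)) = 0
    rw [show res (b * r) = 0 from (residue_eq_zero_iff _).2 (Ideal.mul_mem_left _ b hr), map_zero]
  let g : k →ₗ[B] X := Submodule.liftQ _ (LinearMap.toSpanSingleton B X x₀) fun r hr => hx₀tor r hr
  have hg : ∀ (s b : B), Θ (g (residue B s)) b = ψ (res (b * s)) := fun s b => by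
    show Θ (s • x₀) b = _
    rw [hΘ, hx₀]
    rfl
  refine ⟨g, ?_, ?_⟩
  · rw [injective_iff_map_eq_zero]
    intro c hc
    by_contra hc0
    obtain ⟨s, rfl⟩ := residue_surjective c
    obtain ⟨t, ht⟩ := residue_surjective (residue B s)⁻¹
    have h1 := hg s t
    rw [hc, map_zero, LinearMap.zero_apply] at h1
    refine hψ ?_
    rw [h1]
    exact congrArg ψ (by rw [show res (t * s) = residue B (t * s) from rfl, map_mul, ht, inv_mul_cancel₀ hc0])
  · let G : k →ₗ[A] (k →ₗ[A] E) := (LinearMap.llcomp A k k E ψ).comp (LinearMap.mul A k)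
    have hG : Function.Injective G := by
      rw [injective_iff_map_eq_zero]
      intro c hc
      by_contra hc0
      exact hψ (by simpa [G, inv_mul_cancel₀, mul_inv_cancel₀ hc0] using LinearMap.congr_fun hc c⁻¹)
    have hGs : Function.Surjective G := by
      have h2 := Module.length_eq_add_of_exact (LinearMap.range G).subtype (LinearMap.range G).mkQ
        (Submodule.injective_subtype _) (Submodule.mkQ_surjective _) (LinearMap.exact_subtype_mkQ _)
      rw [← (LinearEquiv.ofInjective G hG).length_eq, length_dual hf hfl] at h2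
      have h3 : Module.length A ((k →ₗ[A] E) ⧸ LinearMap.range G) = 0 := by
        have h4 : Module.length A k + Module.length A ((k →ₗ[A] E) ⧸ LinearMap.range G)
            = Module.length A k + 0 := by rw [add_zero]; exact h2.symm
        exact (WithTop.add_left_inj (Module.length_ne_top_iff.2 hfl)).1 h4
      exact LinearMap.range_eq_top.1 (Submodule.Quotient.subsingleton_iff.1 (Module.length_eq_zero_iff.1 h3))
    intro x hx
    rw [mem_torsion_iff] at hx
    have hker : LinearMap.ker res ≤ LinearMap.ker (Θ x) := fun r hr => by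
      have hr' : r ∈ maximalIdeal B := (residue_eq_zero_iff r).1 hr
      have h1 := hΘ r x 1
      rw [hx r hr', map_zero, LinearMap.zero_apply, one_mul] at h1
      exact h1.symm
    let χ : k →ₗ[A] E := (Submodule.liftQ _ (Θ x) hker).comp (res.quotKerEquivOfSurjective hres).symm.toLinearMap
    have hχ : ∀ b, χ (res b) = Θ x b := fun b => by
      show Submodule.liftQ _ (Θ x) hker ((res.quotKerEquivOfSurjective hres).symm (res b)) = _
      rw [show (res.quotKerEquivOfSurjective hres).symm (res b) = Submodule.Quotient.mk b by
        rw [LinearEquiv.symm_apply_eq]; rfl]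
      rfl
    obtain ⟨c, hc⟩ := hGs χ
    obtain ⟨s, rfl⟩ := residue_surjective c
    refine ⟨residue B s, hinj (LinearMap.ext fun b => ?_)⟩
    rw [hg, ← hχ, ← hc]
    show ψ (res (b * s)) = ψ (residue B s * res b)
    rw [show res (b * s) = residue B s * res b by rw [mul_comm]; exact map_mul (residue B) s b]

end Groth.Agent.InjHullLib
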