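import Groth.Agent.S11174
import Groth.Agent.Lib.Goren.Basic
import Mathlib.RingTheory.LocalRing.Length

/-!
# Injective hulls of residue fields and flat base change with Artinian Gorenstein closed fibre
-/

set_option autoImplicit false

universe u

open CategoryTheory IsLocalRing TensorProduct

namespace Groth.Agent.InjHullLib

/-- The socle of an Artinian Gorenstein local ring is the residue field. -/
theorem exists_essential_of_gorenstein_artinian (R : Type u) [CommRing R] [LocCoh.IsGorensteinLocalRing R]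
    [IsArtinianRing R] : ∃ g : ResidueField R →ₗ[R] R, InjHull.IsEssentialInj g := by
  have hdim : ringKrullDim R = (0 : ℕ) := by
    simpa using (ringKrullDimZero_iff_ringKrullDim_eq_zero (R := R)).1 inferInstance
  obtain ⟨hd, hlt, -⟩ := GorenLib.gorenstein_of_dim hdim
  have hinj : Module.Injective R R := GorenLib.injective_of_depth_zero (by simpa using hd) 0 hlt
  have hind : InjHull.IsIndecomposable R R := by
    refine ⟨inferInstance, fun N N' h => ?_⟩
    obtain ⟨a, ha, b, hb, hab⟩ := Submodule.mem_sup.1 (h.sup_eq_top.ge (Submodule.mem_top (x := (1 : R))))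
    rcases IsLocalRing.isUnit_or_isUnit_of_isUnit_add (hab ▸ isUnit_one : IsUnit (a + b)) with hu | hu
    · obtain rfl : N = ⊤ := Ideal.eq_top_of_isUnit_mem N ha hu
      exact .inr (disjoint_top.1 h.disjoint.symm)
    · obtain rfl : N' = ⊤ := Ideal.eq_top_of_isUnit_mem N' hb hu
      exact .inl (disjoint_top.1 h.disjoint)
  have hpt : LocCoh.IsPowerTorsion (maximalIdeal R) R := fun x => by
    obtain ⟨n, hn⟩ : IsNilpotent (maximalIdeal R) := isArtinianRing_iff_isNilpotent_maximalIdeal R |>.1 inferInstance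
    exact ⟨n, fun r hr => by rw [hn] at hr; rw [(Submodule.mem_bot R).1 hr, zero_smul]⟩
  obtain ⟨c, hc, hc0⟩ := exists_smul_mem_torsion hpt (one_ne_zero : (1 : R) ≠ 0)
  let g : ResidueField R →ₗ[R] R := Submodule.liftQ (maximalIdeal R) (LinearMap.toSpanSingleton R R (c • 1))
    fun r hr => mem_torsion_iff.1 hc r hr
  have hg : ∀ r : R, g (residue R r) = r • c • (1 : R) := fun r => rfl
  have hinjg : Function.Injective g := by
    rw [injective_iff_map_eq_zero]
    intro x hx
    obtain ⟨r, rfl⟩ := residue_surjective x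
    rw [residue_eq_zero_iff]
    by_contra hr
    rw [IsLocalRing.notMem_maximalIdeal] at hr
    exact hc0 (hr.smul_eq_zero.1 ((hg r).symm.trans hx))
  have hess : InjHull.IsEssentialInj g := (isEssentialInj_iff g).2 ⟨hinjg, fun x hx => by
    obtain ⟨z, ⟨hz1, hz2⟩, hz0⟩ := Submodule.exists_mem_ne_zero_of_ne_bot
      (uniform_of_indecomposable hind hinj (Submodule.span R {x}) (Submodule.span R {c • (1 : R)})
        (by simpa using hx) (by simpa using hc0))
    obtain ⟨r, rfl⟩ := Submodule.mem_span_singleton.1 hz1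
    obtain ⟨s, hs⟩ := Submodule.mem_span_singleton.1 hz2
    exact ⟨r, ⟨residue R s, (hg s).trans hs⟩, hz0⟩⟩
  exact ⟨g, hess⟩

/-- The socle condition for a quotient ring that is Artinian Gorenstein. -/
theorem nonempty_socle_equiv_quotient (B : Type u) [CommRing B] [IsLocalRing B] (J : Ideal B)
    [LocCoh.IsGorensteinLocalRing (B ⧸ J)] [IsArtinianRing (B ⧸ J)] :
    Nonempty ((ResidueField B →ₗ[B] B ⧸ J) ≃ₗ[B] ResidueField B) := by
  let C := B ⧸ J
  have : IsLocalHom (Ideal.Quotient.mk J) := IsLocalHom.of_surjective _ Ideal.Quotient.mk_surjective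
  obtain ⟨g, hg⟩ := exists_essential_of_gorenstein_artinian C
  let κ : ResidueField B →+* ResidueField C := ResidueField.map (Ideal.Quotient.mk J)
  have hκs : Function.Surjective κ := fun y => by
    obtain ⟨c, rfl⟩ := residue_surjective y
    obtain ⟨b, rfl⟩ := Ideal.Quotient.mk_surjective c
    exact ⟨residue B b, ResidueField.map_residue _ _⟩
  let g' : ResidueField B →ₗ[B] C :=
    { toFun := fun x => g (κ x)
      map_add' := fun x y => by rw [map_add, map_add]
      map_smul' := fun b x => by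
        obtain ⟨z, rfl⟩ := residue_surjective x
        show g (κ (residue B (b * z))) = Ideal.Quotient.mk J b • g (κ (residue B z))
        rw [ResidueField.map_residue, ResidueField.map_residue, map_mul, ← map_smul]
        rfl }
  refine ⟨(homResidueFieldEquiv (f := g') ((isEssentialInj_iff g').2 ⟨hg.injective.comp κ.injective, fun x hx => ?_⟩)).symm⟩
  obtain ⟨c, ⟨z, hz⟩, hc0⟩ := ((isEssentialInj_iff g).1 hg).2 x hx
  obtain ⟨b, rfl⟩ := Ideal.Quotient.mk_surjective c
  obtain ⟨w, rfl⟩ := hκs z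
  exact ⟨b, ⟨w, hz⟩, hc0⟩

section bc

variable {A : Type u} [CommRing A] [IsLocalRing A] [IsNoetherianRing A]
  {B : Type u} [CommRing B] [IsLocalRing B] [IsNoetherianRing B]
  [Algebra A B] [IsLocalHom (algebraMap A B)] [Module.Flat A B]
  {E : Type u} [AddCommGroup E] [Module A E]

omit [IsLocalRing A] [IsLocalRing B] [IsNoetherianRing B] [IsLocalHom (algebraMap A B)] in
/-- Homomorphisms from a finite module commute with flat base change. -/
theorem exists_homEquiv (N : Type u) [AddCommGroup N] [Module A N] [Module.Finite A N] :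
    ∃ e : B ⊗[A] (N →ₗ[A] E) ≃ₗ[B] (B ⊗[A] N →ₗ[B] B ⊗[A] E), ∀ b φ, e (b ⊗ₜ φ) = b • φ.baseChange B := by
  have := Module.finitePresentation_of_finite A N
  refine ⟨(Module.FinitePresentation.isBaseChange_map (R := A) (M := N) (N := E) (S := B)).equiv, fun b φ => ?_⟩
  rw [IsBaseChange.equiv_tmul]
  rfl

omit [IsLocalRing B] [IsNoetherianRing B] [IsLocalHom (algebraMap A B)] in
theorem mem_range_baseChange_of_killed {f : ResidueField A →ₗ[A] E} (hf : InjHull.IsEssentialInj f)
    {y : B ⊗[A] E} (hy : ∀ b ∈ (maximalIdeal A).map (algebraMap A B), b • y = 0) :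
    y ∈ LinearMap.range (f.baseChange B) := by
  let q : (B ⧸ (maximalIdeal A).map (algebraMap A B)) ≃ₗ[B] B ⊗[A] ResidueField A :=
    (Algebra.TensorProduct.quotIdealMapEquivTensorQuot B (maximalIdeal A)).toLinearEquiv
  let ψ : B ⊗[A] ResidueField A →ₗ[B] B ⊗[A] E :=
    (Submodule.liftQ _ (LinearMap.toSpanSingleton B _ y) fun b hb => hy b hb) ∘ₗ q.symm.toLinearMap
  obtain ⟨e, he⟩ := exists_homEquiv (A := A) (B := B) (E := E) (ResidueField A)
  have hψ : y = ψ (q (Submodule.Quotient.mk 1)) := by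
    simp only [ψ, LinearMap.comp_apply, LinearEquiv.coe_coe, LinearEquiv.symm_apply_apply]
    rw [Submodule.liftQ_apply, LinearMap.toSpanSingleton_apply, one_smul]
  rw [hψ]
  obtain ⟨z, hz⟩ := e.surjective ψ
  rw [← hz]
  clear hz hψ
  induction z using TensorProduct.induction_on with
  | zero => simp
  | tmul b φ =>
    rw [he, LinearMap.smul_apply]
    refine Submodule.smul_mem _ b ?_
    obtain ⟨φ', rfl⟩ : ∃ φ' : ResidueField A →ₗ[A] ResidueField A, f ∘ₗ φ' = φ := by
      obtain ⟨c, hc⟩ := (homResidueFieldEquiv hf).surjective φ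
      exact ⟨LinearMap.mul A (ResidueField A) c, hc⟩
    rw [LinearMap.baseChange_comp]
    exact LinearMap.mem_range_self (f.baseChange B) (φ'.baseChange B (q (Submodule.Quotient.mk 1)))
  | add a b ha hb =>
    rw [map_add, LinearMap.add_apply]
    exact add_mem ha hb

/-- Flat base change of the injective hull of the residue field, closed fibre Artinian with simple socle. -/
theorem exists_hull_baseChange {N : ℕ}
    (hN : maximalIdeal B ^ N ≤ (maximalIdeal A).map (algebraMap A B))
    (hsoc : Nonempty ((ResidueField B →ₗ[B] B ⧸ (maximalIdeal A).map (algebraMap A B)) ≃ₗ[B] ResidueField B))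
    {f : ResidueField A →ₗ[A] E} (hf : InjHull.IsInjectiveHull f) :
    ∃ g : ResidueField B →ₗ[B] B ⊗[A] E, InjHull.IsInjectiveHull g := by
  let J : Ideal B := (maximalIdeal A).map (algebraMap A B)
  have hJ : J ≤ maximalIdeal B := Ideal.map_le_iff_le_comap.2 fun r hr => by
    rw [Ideal.mem_comap, mem_maximalIdeal, map_mem_nonunits_iff]; exact hr
  have hpow : ∀ n, maximalIdeal B ^ (N * n) ≤ ((maximalIdeal A) ^ n).map (algebraMap A B) := fun n => by
    rw [Ideal.map_pow, pow_mul]; exact Ideal.pow_right_mono hN n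
  have ha : LocCoh.IsPowerTorsion (maximalIdeal B) (B ⊗[A] E) := fun y => by
    induction y using TensorProduct.induction_on with
    | zero => exact ⟨0, fun _ _ => smul_zero _⟩
    | tmul b e =>
      obtain ⟨n, hn⟩ := exists_pow_smul_eq_zero hf e
      refine ⟨N * n, fun r hr => ?_⟩
      refine Submodule.span_induction (p := fun r _ => r • (b ⊗ₜ[A] e) = 0) ?_ (zero_smul _ _)
        (fun a c _ _ ha hc => by rw [add_smul, ha, hc, add_zero]) (fun a c _ hc => by rw [smul_assoc, hc, smul_zero]) (hpow n hr)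
      rintro _ ⟨s, hs, rfl⟩
      rw [algebraMap_smul, ← tmul_smul, hn s hs, tmul_zero]
    | add a b ha hb =>
      obtain ⟨n, hn⟩ := ha
      obtain ⟨k, hk⟩ := hb
      exact ⟨n + k, fun r hr => by
        rw [smul_add, hn r (Ideal.pow_le_pow_right (Nat.le_add_right n k) hr),
          hk r (Ideal.pow_le_pow_right (Nat.le_add_left k n) hr), add_zero]⟩
  let q : (B ⧸ J) ≃ₗ[B] B ⊗[A] ResidueField A :=
    (Algebra.TensorProduct.quotIdealMapEquivTensorQuot B (maximalIdeal A)).toLinearEquiv
  let i : (B ⧸ J) →ₗ[B] B ⊗[A] E := f.baseChange B ∘ₗ q.toLinearMap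
  have hi : Function.Injective i :=
    (Module.Flat.lTensor_preserves_injective_linearMap f hf.injective).comp q.injective
  have hb : Nonempty ((ResidueField B →ₗ[B] B ⊗[A] E) ≃ₗ[B] ResidueField B) := by
    obtain ⟨e⟩ := hsoc
    let Φ : (ResidueField B →ₗ[B] B ⧸ J) →ₗ[B] (ResidueField B →ₗ[B] B ⊗[A] E) := LinearMap.llcomp B _ _ _ i
    refine ⟨(LinearEquiv.ofBijective Φ ⟨fun p p' h => LinearMap.ext fun x => hi (LinearMap.congr_fun h x),
      fun χ => ?_⟩).symm.trans e⟩
    have hmem : ∀ x, χ x ∈ LinearMap.range i := fun x => by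
      obtain ⟨w, hw⟩ := mem_range_baseChange_of_killed hf.toIsEssentialInj (y := χ x) fun b hb => by
        rw [← map_smul, residue_smul_eq_zero (hJ hb), map_zero]
      exact ⟨q.symm w, by simpa [i] using hw⟩
    refine ⟨(LinearEquiv.ofInjective i hi).symm.toLinearMap ∘ₗ χ.codRestrict _ hmem, LinearMap.ext fun x => ?_⟩
    exact congrArg Subtype.val ((LinearEquiv.ofInjective i hi).apply_symm_apply ⟨χ x, hmem x⟩)
  refine Groth.Agent.S11174.result B (B ⊗[A] E) ha hb (fun n => ((maximalIdeal A) ^ n).map (algebraMap A B))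
    (fun a b hab => Ideal.map_mono (Ideal.pow_le_pow_right hab)) (fun n => ⟨N * n, hpow n⟩)
    (fun n => ⟨n, by rw [Ideal.map_pow]; exact Ideal.pow_right_mono hJ n⟩) fun n => ?_
  let q' : (B ⧸ ((maximalIdeal A) ^ n).map (algebraMap A B)) ≃ₗ[B] B ⊗[A] (A ⧸ (maximalIdeal A) ^ n) :=
    (Algebra.TensorProduct.quotIdealMapEquivTensorQuot B ((maximalIdeal A) ^ n)).toLinearEquiv
  obtain ⟨e, -⟩ := exists_homEquiv (A := A) (B := B) (E := E) (A ⧸ (maximalIdeal A) ^ n)
  have h1 : Module.length B ((B ⧸ ((maximalIdeal A) ^ n).map (algebraMap A B)) →ₗ[B] B ⊗[A] E) =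
      Module.length B ((B ⊗[A] (A ⧸ (maximalIdeal A) ^ n)) →ₗ[B] B ⊗[A] E) := LinearEquiv.length_eq (q'.congrLeft (B ⊗[A] E) B)
  have h2 : Module.length B (B ⊗[A] ((A ⧸ (maximalIdeal A) ^ n) →ₗ[A] E)) =
      Module.length B ((B ⊗[A] (A ⧸ (maximalIdeal A) ^ n)) →ₗ[B] B ⊗[A] E) := LinearEquiv.length_eq e
  have h3 : Module.length B (B ⧸ ((maximalIdeal A) ^ n).map (algebraMap A B)) =
      Module.length B (B ⊗[A] (A ⧸ (maximalIdeal A) ^ n)) := LinearEquiv.length_eq q'
  refine h3.trans (Eq.trans ?_ (h2.trans h1.symm))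
  rw [IsLocalRing.length_baseChange, IsLocalRing.length_baseChange, length_dual hf (isFiniteLength_quotient le_rfl)]

end bc

end Groth.Agent.InjHullLib
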