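import Groth.Prelude.Def_Wider
import Mathlib.Algebra.Category.ModuleCat.EnoughInjectives
import Mathlib.Algebra.Module.Injective
import Mathlib.Algebra.Category.ModuleCat.Injective
import Mathlib.RingTheory.Noetherian.Basic
import Mathlib.RingTheory.Filtration
import Mathlib.LinearAlgebra.Projection
import Mathlib.RingTheory.Ideal.AssociatedPrime.Basic

/-!
# Essential injections and injective hulls

Basic theory for `InjHull.IsEssentialInj`, `InjHull.IsInjectiveHull`, `InjHull.IsIndecomposable`.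
-/

universe u v

open InjHull

namespace Groth.Agent.InjHullLib

variable {R : Type u} [CommRing R]

section Essential

variable {M E F : Type v} [AddCommGroup M] [Module R M] [AddCommGroup E] [Module R E]
  [AddCommGroup F] [Module R F]

/-- Element criterion for an essential injection. -/
theorem isEssentialInj_iff (f : M →ₗ[R] E) :
    IsEssentialInj f ↔ Function.Injective f ∧
      ∀ x : E, x ≠ 0 → ∃ r : R, r • x ∈ LinearMap.range f ∧ r • x ≠ 0 := by
  constructor
  · rintro ⟨hi, he⟩
    refine ⟨hi, fun x hx => ?_⟩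
    obtain ⟨y, hy, hy0⟩ := Submodule.exists_mem_ne_zero_of_ne_bot
      (he (Submodule.span R {x}) (by simpa using hx))
    obtain ⟨hy1, hy2⟩ := Submodule.mem_inf.1 hy
    obtain ⟨r, rfl⟩ := Submodule.mem_span_singleton.1 hy1
    exact ⟨r, hy2, hy0⟩
  · rintro ⟨hi, he⟩
    refine ⟨hi, fun N hN => ?_⟩
    obtain ⟨x, hx, hx0⟩ := Submodule.exists_mem_ne_zero_of_ne_bot hN
    obtain ⟨r, hr, hr0⟩ := he x hx0
    exact fun h => hr0 ((Submodule.eq_bot_iff _).1 h _ ⟨N.smul_mem r hx, hr⟩)

theorem _root_.InjHull.IsEssentialInj.exists_smul {f : M →ₗ[R] E} (hf : IsEssentialInj f) {x : E}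
    (hx : x ≠ 0) : ∃ (r : R) (m : M), f m = r • x ∧ m ≠ 0 := by
  obtain ⟨r, ⟨m, hm⟩, h0⟩ := ((isEssentialInj_iff f).1 hf).2 x hx
  exact ⟨r, m, hm, fun h => h0 (by rw [← hm, h, map_zero])⟩

/-- A map out of an essential extension is injective if its restriction is. -/
theorem injective_of_comp_injective {f : M →ₗ[R] E} (hf : IsEssentialInj f) (g : E →ₗ[R] F)
    (hg : Function.Injective (g ∘ₗ f)) : Function.Injective g := by
  rw [injective_iff_map_eq_zero]
  intro x hx
  by_contra hx0
  obtain ⟨r, m, hm, hm0⟩ := hf.exists_smul hx0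
  exact hm0 (hg (by simp [hm, hx]))

theorem isEssentialInj_comp {f : M →ₗ[R] E} (hf : IsEssentialInj f) {g : E →ₗ[R] F}
    (hg : IsEssentialInj g) : IsEssentialInj (g ∘ₗ f) := by
  rw [isEssentialInj_iff]
  refine ⟨hg.injective.comp hf.injective, fun x hx => ?_⟩
  obtain ⟨r, e, he, he0⟩ := hg.exists_smul hx
  obtain ⟨s, m, hm, hm0⟩ := hf.exists_smul he0
  refine ⟨s * r, ⟨m, by simp [hm, he, mul_smul]⟩, ?_⟩
  rw [mul_smul, ← he, ← map_smul, ← hm, ← map_zero g, hg.injective.ne_iff, ← map_zero f,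
    hf.injective.ne_iff]
  exact hm0

theorem isEssentialInj_linearEquiv (e : M ≃ₗ[R] E) : IsEssentialInj e.toLinearMap :=
  ⟨e.injective, fun N hN => by rw [LinearMap.range_eq_top.2 e.surjective, inf_top_eq]; exact hN⟩

theorem isInjectiveHull_injective {f : M →ₗ[R] E} (hf : IsInjectiveHull f) :
    Module.Injective R E := hf.isInjective

end Essential

section Injective

variable {E F : Type u} [AddCommGroup E] [Module R E] [AddCommGroup F] [Module R F]

theorem injective_of_linearEquiv (e : E ≃ₗ[R] F) (h : Module.Injective R E) :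
    Module.Injective R F :=
  Module.Baer.iff_injective.1 ((Module.Baer.iff_injective.2 h).of_equiv e)

theorem injective_of_retract (i : E →ₗ[R] F) (r : F →ₗ[R] E) (h : r ∘ₗ i = LinearMap.id)
    (hF : Module.Injective R F) : Module.Injective R E := by
  refine Module.Baer.iff_injective.1 fun I g => ?_
  obtain ⟨g', hg'⟩ := Module.Baer.iff_injective.2 hF I (i ∘ₗ g)
  exact ⟨r ∘ₗ g', fun x hx => by
    simpa [hg' x hx] using LinearMap.congr_fun h (g ⟨x, hx⟩)⟩

theorem injective_of_isCompl {N N' : Submodule R E} (h : IsCompl N N') (hE : Module.Injective R E) :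
    Module.Injective R N :=
  injective_of_retract N.subtype (N.projectionOnto N' h)
    (LinearMap.ext fun x => Submodule.projectionOnto_apply_left h x) hE

/-- A submodule which is injective is a direct summand. -/
theorem exists_isCompl_of_injective (N : Submodule R E) (hN : Module.Injective R N) :
    ∃ N', IsCompl N N' := by
  obtain ⟨r, hr⟩ := hN.out N.subtype Subtype.val_injective LinearMap.id
  exact ⟨LinearMap.ker r, LinearMap.isCompl_of_proj fun x => hr x⟩

theorem injective_range_of_injective (i : E →ₗ[R] F) (hi : Function.Injective i)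
    (hE : Module.Injective R E) : Module.Injective R (LinearMap.range i) :=
  injective_of_linearEquiv (LinearEquiv.ofInjective i hi) hE

theorem exists_embedding_injective (M : Type u) [AddCommGroup M] [Module R M] :
    ∃ (I : Type u) (_ : AddCommGroup I) (_ : Module R I) (f : M →ₗ[R] I),
      Module.Injective R I ∧ Function.Injective f := by
  obtain ⟨P⟩ := CategoryTheory.EnoughInjectives.presentation (ModuleCat.of R M)
  have hP := P.injective
  refine ⟨P.J, inferInstance, inferInstance, P.f.hom, ?_, ?_⟩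
  · exact Module.injective_module_of_injective_object R P.J
  · exact (ModuleCat.mono_iff_injective P.f).1 P.mono

end Injective

section Maximal

variable {I : Type u} [AddCommGroup I] [Module R I]

/-- `E` is an essential extension of `M` inside an ambient module. -/
def EssIn (M E : Submodule R I) : Prop :=
  M ≤ E ∧ ∀ N : Submodule R I, N ≤ E → N ≠ ⊥ → N ⊓ M ≠ ⊥

theorem exists_maximal_essIn (M : Submodule R I) : ∃ E, Maximal (EssIn M) E := by
  have hM : EssIn M M := ⟨le_rfl, fun N hN h0 => by rwa [inf_eq_left.2 hN]⟩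
  obtain ⟨E, -, hE⟩ := zorn_le_nonempty₀ {E : Submodule R I | EssIn M E} (fun c hc hch y hy => by
    refine ⟨sSup c, ⟨(hc hy).1.trans (le_sSup hy), fun N hN hN0 => ?_⟩, fun z hz => le_sSup hz⟩
    obtain ⟨x, hx, hx0⟩ := Submodule.exists_mem_ne_zero_of_ne_bot hN0
    obtain ⟨E, hE, hxE⟩ := (Submodule.mem_sSup_of_directed ⟨y, hy⟩ hch.directedOn).1 (hN hx)
    have h1 := (hc hE).2 (Submodule.span R {x}) (by simpa using hxE) (by simpa using hx0)
    intro h2
    apply h1
    rw [eq_bot_iff, ← h2]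
    exact inf_le_inf_right _ (by simpa using hx)) M hM
  exact ⟨E, hE⟩

theorem exists_maximal_disjoint (E : Submodule R I) :
    ∃ C, Maximal (fun C : Submodule R I => C ⊓ E = ⊥) C := by
  obtain ⟨C, -, hC⟩ := zorn_le_nonempty₀ {C : Submodule R I | C ⊓ E = ⊥} (fun c hc hch y hy => by
    refine ⟨sSup c, ?_, fun z hz => le_sSup hz⟩
    rw [Set.mem_ofPred_eq, eq_bot_iff]
    rintro x ⟨hx1, hx2⟩
    obtain ⟨C, hC, hxC⟩ := (Submodule.mem_sSup_of_directed ⟨y, hy⟩ hch.directedOn).1 hx1
    exact (hc hC : C ⊓ E = ⊥).le ⟨hxC, hx2⟩) ⊥ (by simp)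
  exact ⟨C, hC⟩

theorem EssIn.trans {M E E' : Submodule R I} (h : EssIn M E) (h' : EssIn E E') : EssIn M E' := by
  refine ⟨h.1.trans h'.1, fun N hN hN0 hbot => ?_⟩
  refine h.2 (N ⊓ E) inf_le_right (h'.2 N hN hN0) ?_
  rwa [inf_assoc, inf_eq_right.2 h.1]

/-- Inside an injective module, a maximal essential extension is a direct summand. -/
theorem exists_isCompl_of_no_essential_extension (hI : Module.Injective R I) (E : Submodule R I)
    (hE : ∀ E', EssIn E E' → E' = E) : ∃ C, IsCompl E C := by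
  obtain ⟨C, hC, hCmax⟩ := exists_maximal_disjoint E
  refine ⟨C, ⟨(disjoint_iff).2 (by rwa [inf_comm]), codisjoint_iff.2 ?_⟩⟩
  set q : E →ₗ[R] I ⧸ C := C.mkQ ∘ₗ E.subtype with hq
  have hqi : Function.Injective q := by
    rw [injective_iff_map_eq_zero]
    intro x hx
    have hx' : (x : I) ∈ C ⊓ E := ⟨(Submodule.Quotient.mk_eq_zero C).1 hx, x.2⟩
    rw [hC] at hx'
    exact Subtype.ext hx'
  have hess : IsEssentialInj q := by
    rw [isEssentialInj_iff]
    refine ⟨hqi, fun z hz => ?_⟩
    obtain ⟨x, rfl⟩ := C.mkQ_surjective z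
    have hxC : x ∉ C := fun h => hz ((Submodule.Quotient.mk_eq_zero C).2 h)
    have hne : (C ⊔ Submodule.span R {x}) ⊓ E ≠ ⊥ := fun h =>
      hxC ((hCmax (y := C ⊔ Submodule.span R {x}) h le_sup_left)
        (Submodule.mem_sup_right (Submodule.mem_span_singleton_self x)))
    obtain ⟨w, ⟨hw1, hw2⟩, hw0⟩ := Submodule.exists_mem_ne_zero_of_ne_bot hne
    obtain ⟨c, hc, y, hy, rfl⟩ := Submodule.mem_sup.1 hw1
    obtain ⟨r, rfl⟩ := Submodule.mem_span_singleton.1 hy
    have hqw : q ⟨c + r • x, hw2⟩ = r • C.mkQ x := by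
      simp [hq, (Submodule.Quotient.mk_eq_zero C).2 hc]
    refine ⟨r, ⟨_, hqw⟩, ?_⟩
    rw [← hqw, ← map_zero q, hqi.ne_iff]
    exact fun h => hw0 (congrArg Subtype.val h)
  obtain ⟨g, hg⟩ := Module.Injective.extension_property R I _ _ q hqi E.subtype (inj := hI)
  have hgi : Function.Injective g :=
    injective_of_comp_injective hess g (by rw [hg]; exact Subtype.val_injective)
  have hgE : EssIn E (LinearMap.range g) := by
    refine ⟨fun x hx => ⟨q ⟨x, hx⟩, LinearMap.congr_fun hg ⟨x, hx⟩⟩, fun N hN hN0 hb => ?_⟩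
    obtain ⟨y, hy, hy0⟩ := Submodule.exists_mem_ne_zero_of_ne_bot hN0
    obtain ⟨z, rfl⟩ := hN hy
    obtain ⟨r, m, hm, hm0⟩ := hess.exists_smul (x := z) (fun h => hy0 (by rw [h, map_zero]))
    have h1 : g (q m) ∈ N ⊓ E := by
      constructor
      · rw [hm, map_smul]; exact N.smul_mem r hy
      · rw [show g (q m) = (m : I) from LinearMap.congr_fun hg m]; exact m.2
    rw [hb, Submodule.mem_bot, show g (q m) = (m : I) from LinearMap.congr_fun hg m] at h1
    exact hm0 (Subtype.ext h1)
  have hr := hE _ hgE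
  rw [eq_top_iff]
  intro x _
  have hx : g (C.mkQ x) ∈ E := hr.le ⟨_, rfl⟩
  have h2 : q ⟨_, hx⟩ = C.mkQ x := hgi (LinearMap.congr_fun hg ⟨_, hx⟩)
  rw [Submodule.mem_sup]
  exact ⟨_, hx, x - g (C.mkQ x), (Submodule.Quotient.eq C).1 h2.symm, add_sub_cancel _ _⟩

theorem injective_of_no_essential_extension (hI : Module.Injective R I) (E : Submodule R I)
    (hE : ∀ E', EssIn E E' → E' = E) : Module.Injective R E := by
  obtain ⟨C, hC⟩ := exists_isCompl_of_no_essential_extension hI E hE
  exact injective_of_isCompl hC hI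

theorem no_essential_extension_of_injective (E : Submodule R I) (hE : Module.Injective R E)
    (E' : Submodule R I) (h : EssIn E E') : E' = E := by
  obtain ⟨C, hC⟩ := exists_isCompl_of_injective E hE
  have h0 : E' ⊓ C = ⊥ := by
    by_contra h0
    exact h.2 _ inf_le_left h0 (by rw [inf_assoc, hC.symm.inf_eq_bot, inf_bot_eq])
  refine le_antisymm (fun x hx => ?_) h.1
  obtain ⟨e, he, c, hc, rfl⟩ := Submodule.mem_sup.1 (hC.sup_eq_top.ge (Submodule.mem_top (x := x)))
  have : c ∈ E' ⊓ C := ⟨by simpa using E'.sub_mem hx (h.1 he), hc⟩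
  rw [h0, Submodule.mem_bot] at this
  simpa [this] using he

end Maximal

section Hull

variable {M : Type u} [AddCommGroup M] [Module R M]

theorem exists_isInjectiveHull_inside {I : Type u} [AddCommGroup I] [Module R I]
    (hI : Module.Injective R I) (f : M →ₗ[R] I) (hf : Function.Injective f) :
    ∃ (E : Submodule R I) (g : M →ₗ[R] E), IsInjectiveHull g ∧ E.subtype ∘ₗ g = f := by
  obtain ⟨E, hE⟩ := exists_maximal_essIn (LinearMap.range f)
  have hfE : ∀ m, f m ∈ E := fun m => hE.1.1 ⟨m, rfl⟩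
  refine ⟨E, f.codRestrict E hfE, ⟨⟨fun a b h => hf (congrArg Subtype.val h), ?_⟩, ?_⟩, ?_⟩
  · intro N hN hb
    refine hE.1.2 (N.map E.subtype) (Submodule.map_subtype_le E N)
      (fun h => hN (Submodule.map_injective_of_injective E.injective_subtype
        (h.trans (Submodule.map_bot _).symm))) ?_
    rw [eq_bot_iff]
    rintro x ⟨⟨n, hn, rfl⟩, ⟨m, hm⟩⟩
    have : n ∈ N ⊓ LinearMap.range (f.codRestrict E hfE) := ⟨hn, ⟨m, Subtype.ext hm⟩⟩
    rw [hb, Submodule.mem_bot] at this
    simp [this]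
  · exact injective_of_no_essential_extension hI E
      fun E' h => le_antisymm (hE.2 (hE.1.trans h) h.1) h.1
  · ext; rfl

theorem exists_injective_hull (R : Type u) [CommRing R] (M : Type u) [AddCommGroup M] [Module R M] :
    ∃ (E : Type u) (_ : AddCommGroup E) (_ : Module R E) (f : M →ₗ[R] E), IsInjectiveHull f := by
  obtain ⟨I, _, _, f, hI, hf⟩ := exists_embedding_injective (R := R) M
  obtain ⟨E, g, hg, -⟩ := exists_isInjectiveHull_inside hI f hf
  exact ⟨E, inferInstance, inferInstance, g, hg⟩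

variable {E E' I : Type u} [AddCommGroup E] [Module R E] [AddCommGroup E'] [Module R E']
  [AddCommGroup I] [Module R I]

theorem exists_extension_injective {f : M →ₗ[R] E} (hf : IsEssentialInj f) (i : M →ₗ[R] I)
    (hi : Function.Injective i) (hI : Module.Injective R I) :
    ∃ α : E →ₗ[R] I, Function.Injective α ∧ α ∘ₗ f = i := by
  obtain ⟨α, hα⟩ := Module.Injective.extension_property R I _ _ f hf.injective i (inj := hI)
  exact ⟨α, injective_of_comp_injective hf α (by rw [hα]; exact hi), hα⟩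

/-- An essential extension of an injective module is an isomorphism. -/
theorem surjective_of_isEssentialInj_of_injective {f : E →ₗ[R] E'} (hf : IsEssentialInj f)
    (hE : Module.Injective R E) : Function.Surjective f := by
  obtain ⟨C, hC⟩ :=
    exists_isCompl_of_injective _ (injective_range_of_injective f hf.injective hE)
  have hC0 : C = ⊥ := by_contra fun h => hf.essential C h hC.symm.inf_eq_bot
  rw [← LinearMap.range_eq_top, ← hC.sup_eq_top, hC0, sup_bot_eq]

theorem injectiveHull_unique {f : M →ₗ[R] E} (hf : IsInjectiveHull f) {g : M →ₗ[R] E'}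
    (hg : IsInjectiveHull g) : ∃ e : E ≃ₗ[R] E', e.toLinearMap ∘ₗ f = g := by
  obtain ⟨α, hα, hαf⟩ := exists_extension_injective hf.toIsEssentialInj g hg.injective hg.isInjective
  have : IsEssentialInj α :=
    ⟨hα, fun N hN h => hg.essential N hN (eq_bot_iff.2 ((inf_le_inf_left N
      (by rw [← hαf, LinearMap.range_comp]; exact LinearMap.map_le_range)).trans h.le))⟩
  exact ⟨LinearEquiv.ofBijective α ⟨hα, surjective_of_isEssentialInj_of_injective this hf.isInjective⟩,
    hαf⟩

theorem isInjectiveHull_of_comp_linearEquiv {f : M →ₗ[R] E} (hf : IsInjectiveHull f)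
    (e : E ≃ₗ[R] E') : IsInjectiveHull (e.toLinearMap ∘ₗ f) :=
  ⟨isEssentialInj_comp hf.toIsEssentialInj (isEssentialInj_linearEquiv e),
    injective_of_linearEquiv e hf.isInjective⟩

theorem isInjectiveHull_comp_linearEquiv {f : M →ₗ[R] E} (hf : IsInjectiveHull f)
    {M' : Type u} [AddCommGroup M'] [Module R M'] (e : M' ≃ₗ[R] M) :
    IsInjectiveHull (f ∘ₗ e.toLinearMap) :=
  ⟨isEssentialInj_comp (isEssentialInj_linearEquiv e) hf.toIsEssentialInj, hf.isInjective⟩

end Hull

section Indecomposable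

variable {E : Type u} [AddCommGroup E] [Module R E]

theorem uniform_of_indecomposable (hE : IsIndecomposable R E) (hinj : Module.Injective R E)
    (N N' : Submodule R E) (hN : N ≠ ⊥) (hN' : N' ≠ ⊥) : N ⊓ N' ≠ ⊥ := by
  obtain ⟨E1, hE1⟩ := exists_maximal_essIn N
  obtain ⟨C, hC⟩ := exists_isCompl_of_no_essential_extension hinj E1
    fun E' h => le_antisymm (hE1.2 (hE1.1.trans h) h.1) h.1
  rcases hE.2 E1 C hC with h | h
  · exact absurd (le_bot_iff.1 (h ▸ hE1.1.1)) hN
  · subst h
    have : E1 = ⊤ := by simpa using hC.sup_eq_top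
    rw [inf_comm]
    exact hE1.1.2 N' (this ▸ le_top) hN'

theorem zeroDivisors_prime (hE : IsIndecomposable R E) (hinj : Module.Injective R E) :
    ∃ p : Ideal R, p.IsPrime ∧ (p : Set R) = {r : R | ∃ x : E, x ≠ 0 ∧ r • x = 0} := by
  have := hE.1
  obtain ⟨x0, hx0⟩ := exists_ne (0 : E)
  refine ⟨{ carrier := {r : R | ∃ x : E, x ≠ 0 ∧ r • x = 0}
            zero_mem' := ⟨x0, hx0, zero_smul _ _⟩
            smul_mem' := fun c r ⟨x, hx, hr⟩ => ⟨x, hx, by rw [smul_eq_mul, mul_smul, hr, smul_zero]⟩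
            add_mem' := ?_ }, ⟨?_, ?_⟩, rfl⟩
  · rintro a b ⟨x, hx, ha⟩ ⟨y, hy, hb⟩
    obtain ⟨z, ⟨hz1, hz2⟩, hz0⟩ := Submodule.exists_mem_ne_zero_of_ne_bot
      (uniform_of_indecomposable hE hinj (Submodule.span R {x}) (Submodule.span R {y})
        (by simpa using hx) (by simpa using hy))
    obtain ⟨c, rfl⟩ := Submodule.mem_span_singleton.1 hz1
    obtain ⟨d, hd⟩ := Submodule.mem_span_singleton.1 hz2
    refine ⟨c • x, hz0, ?_⟩
    rw [add_smul, smul_comm a c x, ha, ← hd, smul_comm b d y, hb, smul_zero, smul_zero, add_zero]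
  · rw [Ideal.ne_top_iff_one]
    rintro ⟨x, hx, h1⟩
    exact hx (by rwa [one_smul] at h1)
  · rintro a b ⟨x, hx, hab⟩
    by_cases hb : b • x = 0
    · exact .inr ⟨x, hx, hb⟩
    · exact .inl ⟨b • x, hb, by rwa [← mul_smul]⟩

theorem isIndecomposable_of_uniform_source {M : Type u} [AddCommGroup M] [Module R M] [Nontrivial M]
    (hM : ∀ N N' : Submodule R M, N ≠ ⊥ → N' ≠ ⊥ → N ⊓ N' ≠ ⊥)
    {f : M →ₗ[R] E} (hf : IsEssentialInj f) : IsIndecomposable R E := by
  refine ⟨hf.injective.nontrivial, fun N N' hNN => ?_⟩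
  by_contra h
  push Not at h
  have key : ∀ L : Submodule R E, L ≠ ⊥ → L.comap f ≠ ⊥ := fun L hL => by
    obtain ⟨x, hx, hx0⟩ := Submodule.exists_mem_ne_zero_of_ne_bot hL
    obtain ⟨r, m, hm, hm0⟩ := hf.exists_smul hx0
    exact fun hb => hm0 ((Submodule.eq_bot_iff _).1 hb m (by simp [hm, L.smul_mem r hx]))
  apply hM _ _ (key N h.1) (key N' h.2)
  rw [← Submodule.comap_inf, hNN.inf_eq_bot, Submodule.comap_bot, LinearMap.ker_eq_bot.2 hf.injective]

theorem uniform_quotient_prime (p : Ideal R) [p.IsPrime] (N N' : Submodule R (R ⧸ p))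
    (hN : N ≠ ⊥) (hN' : N' ≠ ⊥) : N ⊓ N' ≠ ⊥ := by
  obtain ⟨x, hx, hx0⟩ := Submodule.exists_mem_ne_zero_of_ne_bot hN
  obtain ⟨y, hy, hy0⟩ := Submodule.exists_mem_ne_zero_of_ne_bot hN'
  obtain ⟨a, rfl⟩ := Ideal.Quotient.mk_surjective x
  obtain ⟨b, rfl⟩ := Ideal.Quotient.mk_surjective y
  intro h
  refine mul_ne_zero hx0 hy0 ((Submodule.eq_bot_iff _).1 h _ ⟨?_, ?_⟩)
  · rw [mul_comm]; exact N.smul_mem b hx
  · exact N'.smul_mem a hy

theorem isIndecomposable_hull_quotient_prime (p : Ideal R) [p.IsPrime] {f : (R ⧸ p) →ₗ[R] E}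
    (hf : IsEssentialInj f) : IsIndecomposable R E :=
  isIndecomposable_of_uniform_source (uniform_quotient_prime p) hf

theorem exists_hull_residueField (p : Ideal R) [p.IsPrime] {f : (R ⧸ p) →ₗ[R] E}
    (hf : IsInjectiveHull f) : ∃ g : p.ResidueField →ₗ[R] E, IsInjectiveHull g := by
  let ι : (R ⧸ p) →ₗ[R] p.ResidueField := (IsScalarTower.toAlgHom R (R ⧸ p) p.ResidueField).toLinearMap
  have hι : IsEssentialInj ι := by
    rw [isEssentialInj_iff]
    refine ⟨fun a b h => IsFractionRing.injective (R ⧸ p) p.ResidueField h, fun x hx => ?_⟩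
    obtain ⟨a, b, hb, rfl⟩ := IsFractionRing.div_surjective (A := R ⧸ p) x
    obtain ⟨s, rfl⟩ := Ideal.Quotient.mk_surjective b
    have hb0 : algebraMap (R ⧸ p) p.ResidueField (Ideal.Quotient.mk p s) ≠ 0 :=
      IsFractionRing.to_map_ne_zero_of_mem_nonZeroDivisors hb
    have e : s • (algebraMap (R ⧸ p) p.ResidueField a /
        algebraMap (R ⧸ p) p.ResidueField (Ideal.Quotient.mk p s)) =
          algebraMap (R ⧸ p) p.ResidueField a := by
      rw [Algebra.smul_def, IsScalarTower.algebraMap_apply R (R ⧸ p) p.ResidueField s,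
        Ideal.Quotient.algebraMap_eq, mul_div_cancel₀ _ hb0]
    refine ⟨s, ⟨a, e.symm⟩, ?_⟩
    rw [e]
    exact (div_ne_zero_iff.1 hx).1
  obtain ⟨g, hg⟩ := Module.Injective.extension_property R E _ _ ι hι.injective f (inj := hf.isInjective)
  have hgi : Function.Injective g := injective_of_comp_injective hι g (by rw [hg]; exact hf.injective)
  refine ⟨g, ⟨⟨hgi, fun N hN hb => hf.essential N hN ?_⟩, hf.isInjective⟩⟩
  rw [eq_bot_iff, ← hb, ← hg, LinearMap.range_comp]
  exact inf_le_inf_left _ LinearMap.map_le_range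

theorem exists_associated_hull [IsNoetherianRing R] (hE : IsIndecomposable R E)
    (hinj : Module.Injective R E) :
    ∃ (p : Ideal R) (_ : p.IsPrime) (f : (R ⧸ p) →ₗ[R] E), IsInjectiveHull f := by
  have := hE.1
  obtain ⟨p, hp⟩ := associatedPrimes.nonempty R E
  obtain ⟨hpp, x, hx⟩ := (isAssociatedPrime_iff (R := R) (M := E)).1 hp
  have hxp : ∀ r : R, r ∈ p ↔ r • x = 0 := fun r => by
    rw [hx, Submodule.mem_colon_singleton, Submodule.mem_bot]
  refine ⟨p, hpp, Submodule.liftQ p (LinearMap.toSpanSingleton R E x)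
    (fun r hr => (hxp r).1 hr), ⟨⟨?_, ?_⟩, hinj⟩⟩
  · rw [injective_iff_map_eq_zero]
    intro z hz
    obtain ⟨r, rfl⟩ := Submodule.Quotient.mk_surjective p z
    exact (Submodule.Quotient.mk_eq_zero p).2 ((hxp r).2 hz)
  · intro N hN
    refine uniform_of_indecomposable hE hinj N _ hN fun h => hpp.ne_top ?_
    rw [Ideal.eq_top_iff_one, hxp, ← Submodule.mem_bot R, ← h]
    exact ⟨Submodule.Quotient.mk 1, rfl⟩

end Indecomposable

section Noetherian

variable [IsNoetherianRing R]

theorem injective_directSum {ι : Type u} (E : ι → Type u) [∀ i, AddCommGroup (E i)]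
    [∀ i, Module R (E i)] (hE : ∀ i, Module.Injective R (E i)) :
    Module.Injective R (DirectSum ι E) := by
  classical
  refine Module.Baer.iff_injective.1 fun I g => ?_
  obtain ⟨t, ht⟩ := (IsNoetherian.noetherian I : I.FG)
  have ht' : ∀ r ∈ t, r ∈ I := fun r hr => ht ▸ Submodule.subset_span hr
  choose g' hg' using fun i : ι =>
    Module.Baer.iff_injective.2 (hE i) I (DirectSum.component R ι E i ∘ₗ g)
  let s : Finset ι := t.attach.biUnion fun r => (g ⟨r.1, ht' _ r.2⟩).support
  refine ⟨LinearMap.toSpanSingleton R _ (∑ i ∈ s, DirectSum.lof R ι E i (g' i 1)), fun x hx => ?_⟩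
  have key : ∀ y : I, ∀ i ∉ s, DirectSum.component R ι E i (g y) = 0 := by
    intro y i hi
    have hy : (y : R) ∈ Submodule.span R (t : Set R) := ht.symm ▸ y.2
    suffices ∀ z (hz : z ∈ Submodule.span R (t : Set R)),
        DirectSum.component R ι E i (g ⟨z, ht ▸ hz⟩) = 0 from this y hy
    intro z hz
    induction hz using Submodule.span_induction with
    | mem r hr =>
      by_contra h
      exact hi (Finset.mem_biUnion.2 ⟨⟨r, hr⟩, Finset.mem_attach _ _, DFinsupp.mem_support_iff.2 h⟩)
    | zero => rw [show (⟨(0 : R), _⟩ : I) = 0 from rfl, map_zero, map_zero]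
    | add a b ha hb iha ihb =>
      rw [show (⟨a + b, _⟩ : I) = ⟨a, ht ▸ ha⟩ + ⟨b, ht ▸ hb⟩ from rfl, map_add, map_add, iha, ihb,
        add_zero]
    | smul c a ha iha =>
      rw [show (⟨c • a, _⟩ : I) = c • ⟨a, ht ▸ ha⟩ from rfl, map_smul, map_smul, iha, smul_zero]
  refine DirectSum.ext_component (R := R) fun i => ?_
  rw [LinearMap.toSpanSingleton_apply, map_smul, map_sum]
  have h1 : x • g' i 1 = DirectSum.component R ι E i (g ⟨x, hx⟩) := by
    rw [← map_smul, smul_eq_mul, mul_one]; exact hg' i x hx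
  by_cases hi : i ∈ s
  · rw [Finset.sum_eq_single_of_mem i hi (fun j _ hj => by
      rw [DirectSum.component.of, dif_neg hj]), DirectSum.component.lof_self]
    exact h1
  · rw [Finset.sum_eq_zero (fun j hj => by
      rw [DirectSum.component.of, dif_neg (show ¬ j = i from fun h => hi (h ▸ hj))]), smul_zero,
      key _ i hi]

theorem exists_isInternal_indecomposable (I : Type u) [AddCommGroup I] [Module R I]
    (hI : Module.Injective R I) :
    ∃ S : Set (Submodule R I), sSupIndep S ∧ sSup S = ⊤ ∧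
      ∀ N ∈ S, IsIndecomposable R N ∧ Module.Injective R N := by
  classical
  let P : Set (Set (Submodule R I)) :=
    {S | sSupIndep S ∧ ∀ N ∈ S, IsIndecomposable R N ∧ Module.Injective R N}
  obtain ⟨S, hS, hmax⟩ := zorn_subset P fun c hc hch => by
    refine ⟨⋃₀ c, ⟨?_, ?_⟩, fun s hs => Set.subset_sUnion_of_mem hs⟩
    · exact iSupIndep_sUnion_of_directed hch.directedOn fun a ha => (hc ha).1
    · rintro N ⟨s, hs, hN⟩; exact (hc hs).2 N hN
  refine ⟨S, hS.1, ?_, hS.2⟩
  have hD : Module.Injective R (sSup S : Submodule R I) := by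
    have h1 : Module.Injective R (DirectSum S fun N => (N : Submodule R I)) :=
      injective_directSum _ fun N => (hS.2 N N.2).2
    refine injective_of_linearEquiv ((LinearEquiv.ofInjective
      (DirectSum.coeLinearMap fun N : S => (N : Submodule R I)) ?_) ≪≫ₗ LinearEquiv.ofEq _ _ ?_) h1
    · exact ((sSupIndep_iff S).1 hS.1).dfinsupp_lsum_injective
    · rw [DirectSum.range_coeLinearMap, sSup_eq_iSup']
  obtain ⟨C, hC⟩ := exists_isCompl_of_injective _ hD
  by_contra htop
  have hC0 : C ≠ ⊥ := fun h => htop (by simpa [h] using hC.sup_eq_top)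
  have hCinj := injective_of_isCompl hC.symm hI
  have : Nontrivial C := Submodule.nontrivial_iff_ne_bot.2 hC0
  obtain ⟨p, hp⟩ := associatedPrimes.nonempty R C
  obtain ⟨hpp, x, hx⟩ := (isAssociatedPrime_iff (R := R) (M := C)).1 hp
  have hxp : ∀ r : R, r ∈ p ↔ r • x = 0 := fun r => by
    rw [hx, Submodule.mem_colon_singleton, Submodule.mem_bot]
  let f : (R ⧸ p) →ₗ[R] C :=
    Submodule.liftQ p (LinearMap.toSpanSingleton R C x) fun r hr => (hxp r).1 hr
  have hf : Function.Injective f := by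
    rw [injective_iff_map_eq_zero]
    intro z hz
    obtain ⟨r, rfl⟩ := Submodule.Quotient.mk_surjective p z
    exact (Submodule.Quotient.mk_eq_zero p).2 ((hxp r).2 hz)
  obtain ⟨E, g, hg, hgf⟩ := exists_isInjectiveHull_inside hCinj f hf
  let N := E.map C.subtype
  have e : E ≃ₗ[R] N := Submodule.equivMapOfInjective _ C.injective_subtype E
  have hNC : N ≤ C := Submodule.map_subtype_le C E
  have hN : IsIndecomposable R N ∧ Module.Injective R N :=
    ⟨isIndecomposable_hull_quotient_prime p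
      (isEssentialInj_comp hg.toIsEssentialInj (isEssentialInj_linearEquiv e)),
     injective_of_linearEquiv e hg.isInjective⟩
  have hins : insert N S ∈ P := by
    refine ⟨?_, fun M hM => ?_⟩
    · intro a ha
      rcases eq_or_ne a N with rfl | haN
      · exact (hC.symm.disjoint.mono_left hNC).mono_right
          (sSup_le_sSup fun b hb => (Set.mem_insert_iff.1 hb.1).resolve_left hb.2)
      · have haS : a ∈ S := (Set.mem_insert_iff.1 ha).resolve_left haN
        have h2 : insert N S \ {a} = insert N (S \ {a}) := Set.insert_sdiff_of_notMem _ (by simpa using haN.symm)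
        rw [h2, sSup_insert, sup_comm]
        refine Disjoint.disjoint_sup_right_of_disjoint_sup_left (hS.1 haS) ?_
        exact (hC.disjoint.mono_left (sup_le (le_sSup haS) (sSup_le_sSup Set.sdiff_subset))).mono_right hNC
    · rcases Set.mem_insert_iff.1 hM with rfl | h
      · exact hN
      · exact hS.2 M h
  have hNS : N ∈ S := hmax hins (Set.subset_insert _ _) (Set.mem_insert _ _)
  have h3 : N = ⊥ := le_bot_iff.1 (hC.inf_eq_bot ▸ le_inf (le_sSup hNS) hNC)
  exact (Submodule.nontrivial_iff_ne_bot.1 hN.1.1) h3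

end Noetherian

end Groth.Agent.InjHullLib
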